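import Groth.Agent.QuadCliff.BC
import Groth.Agent.QuadCliff.Global
import Groth.Agent.QuadCliff.Reg
import Mathlib.RingTheory.OrzechProperty
import Mathlib.Tactic

/-!
A finite family of even central elements which detects the Dickson condition after every base change.
-/

namespace QuadConn

open CliffordAlgebra TensorProduct QuadCliff

universe u v

variable {R : Type u} [CommRing R] {M : Type v} [AddCommGroup M] [Module R M]

/-- An even element which, over the locus where `u` is invertible, is a unit multiple of a generator of the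
centre of the even Clifford algebra. -/
structure ZDatum (Q : QuadraticForm R M) where
  z : CliffordAlgebra Q
  a : R
  u : R
  y : CliffordAlgebra Q
  mem : z ∈ evenOdd Q 0
  rel : ∀ v, ι Q v * z + z * ι Q v = a • ι Q v
  inv : (a • (1 : CliffordAlgebra Q) - 2 * z) * y = u • 1
  dvd : a ∣ u

namespace ZDatum

variable {Q : QuadraticForm R M} (d : ZDatum Q)

theorem central {x : CliffordAlgebra Q} (hx : x ∈ evenOdd Q 0) : d.z * x = x * d.z := by
  refine comm_even_of_pairs (fun v w => ?_) hx
  have hv : d.z * ι Q v = d.a • ι Q v - ι Q v * d.z := eq_sub_of_add_eq' (d.rel v)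
  have hw : d.z * ι Q w = d.a • ι Q w - ι Q w * d.z := eq_sub_of_add_eq' (d.rel w)
  rw [← mul_assoc, hv, sub_mul, mul_assoc (ι Q v) d.z, hw, mul_sub, smul_mul_assoc, mul_smul_comm, mul_assoc]
  abel

theorem mem_center : (⟨d.z, d.mem⟩ : CliffordAlgebra.even Q) ∈
    Subalgebra.center R (CliffordAlgebra.even Q) :=
  (mem_center_iff_comm _).mpr fun _ hx => d.central hx

/-- Base change. -/
noncomputable def map [Module.Free R M] (A : Type u) [CommRing A] [Algebra R A] :
    ZDatum (QuadGrp.baseChangeForm A Q) where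
  z := toBC A Q d.z
  a := algebraMap R A d.a
  u := algebraMap R A d.u
  y := toBC A Q d.y
  mem := toBC_mem_evenOdd A Q d.mem
  rel v := by
    induction v using TensorProduct.induction_on with
    | zero => simp
    | add v w hv hw => rw [map_add, add_mul, mul_add, add_add_add_comm, hv, hw, smul_add]
    | tmul c m =>
      have h := congrArg (toBC A Q) (d.rel m)
      simp only [map_add, map_mul, map_smul, toBC_ι] at h
      rw [← algebraMap_smul A d.a] at h
      rw [show c ⊗ₜ[R] m = c • ((1 : A) ⊗ₜ[R] m) by rw [TensorProduct.smul_tmul', smul_eq_mul, mul_one], map_smul,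
        smul_mul_assoc, mul_smul_comm, ← smul_add, h, smul_comm]
  inv := by
    have h := congrArg (toBC A Q) d.inv
    simpa only [map_mul, map_sub, map_smul, map_one, map_ofNat, algebraMap_smul] using h
  dvd := map_dvd _ d.dvd

theorem exists_isEta {n : ℕ} (b : Module.Basis (Fin n) R M) (hu : IsUnit d.u) :
    ∃ c : R, IsEta (Q := Q) (c • d.z) := by
  obtain ⟨c, hc⟩ := (isUnit_of_dvd_unit d.dvd hu).exists_left_inv
  obtain ⟨ui, hui⟩ := hu.exists_left_inv
  refine ⟨c, Submodule.smul_mem _ _ d.mem, fun v => ?_, ?_⟩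
  · have h := congrArg (fun x => c • x) (d.rel v)
    simp only [smul_add, smul_smul, hc, one_smul] at h
    rw [sub_mul, one_mul, smul_mul_assoc, mul_smul_comm, eq_sub_iff_add_eq]
    exact h
  · have h : (1 - 2 * (c • d.z)) * ((d.a * ui) • d.y) = 1 := by
      have e : 1 - 2 * (c • d.z) = c • (d.a • (1 : CliffordAlgebra Q) - 2 * d.z) := by
        rw [smul_sub, smul_smul, hc, one_smul, mul_smul_comm]
      rw [e, smul_mul_smul_comm, d.inv, smul_smul, ← mul_assoc, hc, one_mul, hui, one_smul]
    obtain ⟨_, hfin⟩ := free_finite (Q := Q) b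
    have hinj := OrzechProperty.injective_of_surjective_endomorphism
      (LinearMap.mulLeft R (1 - 2 * (c • d.z))) fun x => ⟨((d.a * ui) • d.y) * x, by
        rw [LinearMap.mulLeft_apply, ← mul_assoc, h, one_mul]⟩
    exact ⟨⟨_, _, h, hinj (by rw [LinearMap.mulLeft_apply, LinearMap.mulLeft_apply, ← mul_assoc, h, one_mul,
      mul_one])⟩, rfl⟩

end ZDatum

variable [Module.Free R M] {Q : QuadraticForm R M} {k : ℕ} (b : Module.Basis (Fin (2 * k)) R M)
  (hk : 0 < k) (hQ : QuadGrp.IsRegular Q)

include b hQ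

theorem exists_zDatum_atPrime (p : Ideal R) [p.IsPrime] : ∃ d : ZDatum Q, d.u ∉ p := by
  classical
  let A := Localization.AtPrime p
  obtain ⟨η, hη⟩ := exists_eta_atPrime b hQ p
  obtain ⟨x, s, hs, hsx⟩ := exists_smul_eq A Q p.primeCompl η
  obtain ⟨x0, h0, x1, h1, rfl⟩ := exists_decomp x
  have hx1 : toBC A Q x1 = 0 :=
    (decomp_unique (toBC_mem_evenOdd _ _ h0) (Submodule.smul_mem _ _ hη.mem) (toBC_mem_evenOdd _ _ h1)
      (Submodule.zero_mem _) (by rw [add_zero, hsx, map_add])).2
  rw [map_add, hx1, add_zero] at hsx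
  obtain ⟨zi, hzi⟩ := hη.unit.exists_right_inv
  obtain ⟨y, r, hr, hry⟩ := exists_smul_eq A Q p.primeCompl zi
  have hrel : ∀ i, ∃ t ∈ p.primeCompl,
      t • (ι Q (b i) * x0 + x0 * ι Q (b i) - s • ι Q (b i)) = 0 := fun i => by
    refine exists_smul_eq_zero A Q p.primeCompl ?_
    rw [map_sub, map_add, map_mul, map_mul, map_smul, toBC_ι, ← hsx, mul_smul_comm, smul_mul_assoc,
      hη.rel, ← smul_add, sub_mul, one_mul, sub_add_cancel, algebraMap_smul, sub_self]
  choose t ht htx using hrel
  obtain ⟨t', ht', htx'⟩ := exists_smul_eq_zero A Q p.primeCompl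
    (x := (s • (1 : CliffordAlgebra Q) - 2 * x0) * y - (s * r) • 1) (by
      simp only [map_sub, map_mul, map_smul, map_one, map_ofNat]
      rw [← hsx, ← hry, ← algebraMap_smul A s, ← algebraMap_smul A (s * r), map_mul,
        show algebraMap R A s • (1 : CliffordAlgebra _) - 2 * algebraMap R A s • η = algebraMap R A s • (1 - 2 * η) by
          rw [smul_sub, mul_smul_comm],
        smul_mul_assoc, mul_smul_comm, hzi, smul_smul, sub_self])
  set T := ∏ i, t i with hT
  refine ⟨{ z := T • x0, a := T * s, u := T * t' * (s * r), y := t' • y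
            mem := Submodule.smul_mem _ _ h0, rel := fun v => ?_, inv := ?_
            dvd := ⟨t' * r, by ring⟩ },
    mul_mem (mul_mem (prod_mem fun i _ => ht i) ht') (mul_mem hs hr)⟩
  · have h : (LinearMap.mulRight R (T • x0) + LinearMap.mulLeft R (T • x0)).comp (ι Q) = (T * s) • ι Q := by
      refine b.ext fun i => ?_
      show ι Q (b i) * (T • x0) + T • x0 * ι Q (b i) = (T * s) • ι Q (b i)
      rw [← sub_eq_zero, mul_smul_comm, smul_mul_assoc, mul_smul, ← smul_add, ← smul_sub, hT,
        ← Finset.prod_erase_mul _ _ (Finset.mem_univ i), mul_smul, htx i, smul_zero]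
    exact LinearMap.congr_fun h v
  · rw [smul_sub, sub_eq_zero] at htx'
    rw [show (T * s) • (1 : CliffordAlgebra Q) - 2 * (T • x0) = T • (s • (1 : CliffordAlgebra Q) - 2 * x0) by
      rw [smul_sub, smul_smul, mul_smul_comm], smul_mul_assoc, mul_smul_comm, htx', smul_smul, smul_smul]

theorem exists_zData : ∃ (N : ℕ) (d : Fin N → ZDatum Q), Ideal.span (Set.range fun i => (d i).u) = ⊤ := by
  classical
  choose d hd using fun p : PrimeSpectrum R => exists_zDatum_atPrime b hQ p.asIdeal
  have htop : Ideal.span (Set.range fun p => (d p).u) = ⊤ := by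
    by_contra h
    obtain ⟨m, hm, hle⟩ := Ideal.exists_le_maximal _ h
    exact hd ⟨m, hm.isPrime⟩ (hle (Ideal.subset_span ⟨_, rfl⟩))
  obtain ⟨c, hc⟩ := Finsupp.mem_span_range_iff_exists_finsupp.mp ((Ideal.eq_top_iff_one _).mp htop)
  refine ⟨c.support.card, fun i => d (c.support.equivFin.symm i : PrimeSpectrum R),
    (Ideal.eq_top_iff_one _).mpr ?_⟩
  rw [← hc, Finsupp.sum]
  refine Ideal.sum_mem _ fun p hp => Ideal.mul_mem_left _ _ (Ideal.subset_span ⟨c.support.equivFin ⟨p, hp⟩, ?_⟩)
  simp

include hk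

/-- The Dickson condition over every algebra is detected by the family. -/
theorem isDicksonTrivial_bc_iff {ι' : Type*} (d : ι' → ZDatum Q)
    (hd : Ideal.span (Set.range fun i => (d i).u) = ⊤) (A : Type u) [CommRing A] [Algebra R A]
    (g : (A ⊗[R] M) ≃ₗ[A] (A ⊗[R] M)) (hg : g ∈ QuadGrp.O (QuadGrp.baseChangeForm A Q)) :
    QuadGrp.IsDicksonTrivial (QuadGrp.baseChangeForm A Q) g hg ↔
      ∀ i, cmap g hg (toBC A Q (d i).z) = toBC A Q (d i).z := by
  refine ⟨fun h i => h ⟨((d i).map A).z, ((d i).map A).mem⟩ ((d i).map A).mem_center, fun h => ?_⟩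
  refine isDicksonTrivial_of_fixed_atPrime (b.baseChange A) hk (isRegular_baseChange A Q b hQ) g hg fun q _ => ?_
  let f := (algebraMap A (Localization.AtPrime q)).comp (algebraMap R A)
  obtain ⟨i, hi⟩ : ∃ i, IsUnit (f (d i).u) := by
    by_contra hall
    push Not at hall
    have hle : Ideal.span (Set.range fun i => (d i).u) ≤
        (IsLocalRing.maximalIdeal (Localization.AtPrime q)).comap f :=
      Ideal.span_le.mpr (by rintro _ ⟨i, rfl⟩; exact hall i)
    rw [hd, top_le_iff, Ideal.comap_eq_top_iff] at hle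
    exact (IsLocalRing.maximalIdeal.isMaximal _).ne_top hle
  obtain ⟨c, hc⟩ := (((d i).map A).map (Localization.AtPrime q)).exists_isEta
    ((b.baseChange A).baseChange (Localization.AtPrime q)) hi
  refine ⟨_, hc, ?_⟩
  rw [map_smul]
  refine congrArg (c • ·) ?_
  show cmap _ _ (toBC _ _ (toBC A Q (d i).z)) = toBC _ _ (toBC A Q (d i).z)
  rw [cmap, ← toBC_map _ _ g hg]
  exact congrArg _ (h i)

end QuadConn
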