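import Groth.Agent.QuadConnLib.Isom
import Groth.Agent.QuadGrpL.Field
import Groth.Agent.QuadCliff.OddUse
import Mathlib.FieldTheory.IsAlgClosed.Basic
import Mathlib.LinearAlgebra.FiniteDimensional.Basic
import Mathlib.LinearAlgebra.Matrix.SchurComplement
import Mathlib.Tactic

/-!
Over an algebraically closed field the special orthogonal group is generated by products of two reflections and by
Eichler transformations.
-/

namespace QuadConn

open CliffordAlgebra QuadCliff QuadraticMap Module

universe u v

variable {K : Type u} [Field K] {V : Type v} [AddCommGroup V] [Module K V] (q : QuadraticForm K V)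

/-- Eichler transformations. -/
def eichlerSet : Set (V ≃ₗ[K] V) := {g | ∃ (e a : V) (he : q e = 0) (hea : polar q e a = 0), g = eichler q e a he hea}

/-- Reflections. -/
def reflSet : Set (V ≃ₗ[K] V) := {g | ∃ (v : V) (c : K) (h : c * q v = 1), g = refl q v c h}

/-- Products of two reflections. -/
def pairSet : Set (V ≃ₗ[K] V) :=
  {g | ∃ (v w : V) (c d : K) (hv : c * q v = 1) (hw : d * q w = 1), g = refl q v c hv * refl q w d hw}

theorem exists_isotropic_smul [IsAlgClosed K] {a b : V} (ha : q a ≠ 0) : ∃ T : K, q (b + T • a) = 0 := by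
  obtain ⟨T, hT⟩ := IsAlgClosed.exists_root
    (Polynomial.C (q a) * Polynomial.X ^ 2 + Polynomial.C (polar q b a) * Polynomial.X + Polynomial.C (q b))
    (by rw [Polynomial.degree_quadratic ha]; decide)
  refine ⟨T, ?_⟩
  simp only [Polynomial.IsRoot.def, Polynomial.eval_add, Polynomial.eval_mul, Polynomial.eval_pow, Polynomial.eval_C,
    Polynomial.eval_X] at hT
  rw [QuadraticMap.map_add q b, QuadraticMap.map_smul, polar_smul_right, smul_eq_mul, smul_eq_mul, ← hT]
  ring

variable [FiniteDimensional K V]

/-- The orthogonal group is generated by reflections and Eichler transformations. -/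
theorem mem_closure_refl_eichler [IsAlgClosed K] (hnd : ∀ x, q x = 0 → (∀ y, polar q x y = 0) → x = 0)
    {g : V ≃ₗ[K] V} (hg : g ∈ QuadGrp.O q) : g ∈ Subgroup.closure (reflSet q ∪ eichlerSet q) := by
  set H := Subgroup.closure (reflSet q ∪ eichlerSet q) with hH
  have hrefl : ∀ v c (h : c * q v = 1), refl q v c h ∈ H := fun v c h =>
    Subgroup.subset_closure (Or.inl ⟨v, c, h, rfl⟩)
  have heich : ∀ e a he hea, eichler q e a he hea ∈ H := fun e a he hea =>
    Subgroup.subset_closure (Or.inr ⟨e, a, he, hea, rfl⟩)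
  suffices key : ∀ (k : ℕ) (F : Submodule K V), finrank K V - finrank K F ≤ k →
      (∀ x, ∃ p ∈ F, ∀ y ∈ F, polar q (x - p) y = 0) →
      ∀ g ∈ QuadGrp.O q, (∀ x ∈ F, g x = x) → g ∈ H by
    exact key _ ⊥ le_rfl (fun x => ⟨0, zero_mem _, fun y hy => by rw [(Submodule.mem_bot K).mp hy]; simp⟩) g hg
      fun x hx => by rw [(Submodule.mem_bot K).mp hx, map_zero]
  intro k
  induction k using Nat.strong_induction_on with
  | _ k ih =>
  intro F hk hF g hg hfix
  have hpol : ∀ {h : V ≃ₗ[K] V}, h ∈ QuadGrp.O q → ∀ x y, polar q (h x) (h y) = polar q x y := fun {h} hh x y => by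
    simp only [polar, ← map_add, hh _]
  -- the complement of `F`
  set P : V → Prop := fun w => ∀ y ∈ F, polar q w y = 0 with hP
  have hPg : ∀ w, P w → P (g w) := fun w hw y hy => by rw [← hfix y hy, hpol hg]; exact hw y hy
  by_cases hiso : ∃ e, P e ∧ e ≠ 0 ∧ q e = 0
  · obtain ⟨e, heW, he0, he⟩ := hiso
    have hee : polar q e e = 0 := by rw [polar_self, he, smul_zero]
    obtain ⟨y, hy⟩ : ∃ y, polar q e y ≠ 0 := by
      by_contra hall
      push Not at hall
      exact he0 (hnd e he hall)
    obtain ⟨p, hp, hpy⟩ := hF y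
    obtain ⟨f0, hf0W, hf0⟩ : ∃ f0, P f0 ∧ polar q e f0 = 1 := by
      refine ⟨(polar q e y)⁻¹ • (y - p), fun z hz => ?_, ?_⟩
      · rw [polar_smul_left, hpy z hz, smul_zero]
      · rw [polar_smul_right, polar_sub_right, heW p hp, sub_zero, smul_eq_mul, inv_mul_cancel₀ hy]
    set f := f0 - q f0 • e with hfdef
    have hfW : P f := fun z hz => by rw [hfdef, polar_sub_left, polar_smul_left, hf0W z hz, heW z hz, smul_zero, sub_zero]
    have hef : polar q e f = 1 := by rw [hfdef, polar_sub_right, polar_smul_right, hee, hf0, smul_zero, sub_zero]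
    have hqf : q f = 0 := by
      rw [hfdef, sub_eq_add_neg, ← neg_smul, QuadraticMap.map_add q f0, QuadraticMap.map_smul, polar_smul_right, he,
        polar_comm q f0 e, hf0]
      simp
    -- vectors of the complement fixing `F`
    have hreflF : ∀ v c (h : c * q v = 1), P v → ∀ x ∈ F, refl q v c h x = x := fun v c h hv x hx => by
      rw [refl_apply, hv x hx, mul_zero, zero_smul, sub_zero]
    have heichF : ∀ a he hea, P a → ∀ x ∈ F, eichler q e a he hea x = x := fun a he hea ha x hx => by
      rw [eichler_apply, ha x hx, heW x hx]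
      simp
    -- move `g e` to `e`
    obtain ⟨h1, hh1, hh1O, hh1F, hh1e⟩ : ∃ h ∈ H, h ∈ QuadGrp.O q ∧ (∀ x ∈ F, h x = x) ∧ h (g e) = e := by
      have step : ∀ e', P e' → q e' = 0 → polar q e' e ≠ 0 →
          ∃ h ∈ H, h ∈ QuadGrp.O q ∧ (∀ x ∈ F, h x = x) ∧ h e' = e := by
        intro e' he'W he' hne
        have hv : q (e' - e) = -polar q e' e := by
          rw [sub_eq_add_neg, QuadraticMap.map_add q e', QuadraticMap.map_neg, polar_neg_right, he, he']
          simp
        have hvW : P (e' - e) := fun z hz => by rw [polar_sub_left, he'W z hz, heW z hz, sub_zero]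
        have hc : (q (e' - e))⁻¹ * q (e' - e) = 1 := inv_mul_cancel₀ (by rw [hv]; exact neg_ne_zero.mpr hne)
        refine ⟨_, hrefl _ _ hc, refl_mem_O q _ _ hc, hreflF _ _ hc hvW, ?_⟩
        rw [refl_apply, polar_sub_left, polar_self, he', smul_zero, zero_sub, polar_comm q e e', ← hv, hc, one_smul,
          sub_sub_cancel]
      have he'W := hPg e heW
      have he' : q (g e) = 0 := (hg e).trans he
      by_cases hne : polar q (g e) e = 0
      · -- a vector meeting both
        obtain ⟨w0, hw0W, hw1, hw2⟩ : ∃ w, P w ∧ polar q (g e) w ≠ 0 ∧ polar q e w ≠ 0 := by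
          have h2 : polar q (g e) (g f) = 1 := by rw [hpol hg, hef]
          by_cases ha : polar q (g e) f = 0
          · by_cases hb : polar q e (g f) = 0
            · refine ⟨f + g f, fun z hz => ?_, ?_, ?_⟩
              · rw [polar_add_left, hfW z hz, hPg f hfW z hz, add_zero]
              · rw [polar_add_right, ha, h2, zero_add]; exact one_ne_zero
              · rw [polar_add_right, hef, hb, add_zero]; exact one_ne_zero
            · exact ⟨g f, hPg f hfW, by rw [h2]; exact one_ne_zero, hb⟩
          · exact ⟨f, hfW, ha, by rw [hef]; exact one_ne_zero⟩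
        obtain ⟨w, hwW, hw1', hw2', hqw⟩ : ∃ w, P w ∧ polar q (g e) w ≠ 0 ∧ polar q e w ≠ 0 ∧ q w ≠ 0 := by
          by_cases hq0 : q w0 = 0
          · refine ⟨w0 + e, fun z hz => ?_, ?_, ?_, ?_⟩
            · rw [polar_add_left, hw0W z hz, heW z hz, add_zero]
            · rwa [polar_add_right, hne, add_zero]
            · rwa [polar_add_right, hee, add_zero]
            · rwa [QuadraticMap.map_add q w0, hq0, he, polar_comm q w0 e, zero_add, zero_add]
          · exact ⟨w0, hw0W, hw1, hw2, hq0⟩
        have hc : (q w)⁻¹ * q w = 1 := inv_mul_cancel₀ hqw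
        set e2 := refl q w _ hc (g e) with he2
        have he2W : P e2 := fun z hz => by
          rw [← hreflF w _ hc hwW z hz, he2, hpol (refl_mem_O q w _ hc)]
          exact he'W z hz
        obtain ⟨h, hh, hhO, hhF, hhe⟩ := step e2 he2W ((refl_mem_O q w _ hc _).trans he') (by
          rw [he2, refl_apply, polar_sub_left, polar_smul_left, hne, zero_sub, smul_eq_mul, neg_ne_zero,
            polar_comm q w (g e), polar_comm q w e]
          exact mul_ne_zero (mul_ne_zero (inv_ne_zero hqw) hw1') hw2')
        exact ⟨h * refl q w _ hc, H.mul_mem hh (hrefl _ _ hc), (QuadGrp.O q).mul_mem hhO (refl_mem_O q w _ hc),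
          fun x hx => by rw [LinearEquiv.mul_apply, hreflF w _ hc hwW x hx, hhF x hx],
          by rw [LinearEquiv.mul_apply]; exact hhe⟩
      · exact step (g e) he'W he' hne
    set g1 := h1 * g with hg1
    have hg1O : g1 ∈ QuadGrp.O q := (QuadGrp.O q).mul_mem hh1O hg
    have hg1F : ∀ x ∈ F, g1 x = x := fun x hx => by rw [hg1, LinearEquiv.mul_apply, hfix x hx, hh1F x hx]
    have hg1e : g1 e = e := hh1e
    -- then `g1 f` to `f`
    set f1 := g1 f with hf1
    have hef1 : polar q e f1 = 1 := by
      conv_lhs => rw [← hg1e]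
      rw [hf1, hpol hg1O, hef]
    have hqf1 : q f1 = 0 := (hg1O f).trans hqf
    have hf1W : P f1 := fun z hz => by rw [hf1, ← hg1F z hz, hpol hg1O]; exact hfW z hz
    set a := -(f1 - f - polar q f1 f • e) with ha
    have haW : P a := fun z hz => by
      rw [ha, polar_neg_left, polar_sub_left, polar_sub_left, polar_smul_left, hf1W z hz, hfW z hz, heW z hz]
      simp
    have hea : polar q e a = 0 := by
      rw [ha, polar_neg_right, polar_sub_right, polar_sub_right, polar_smul_right, hef1, hef, hee]
      simp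
    have haf : polar q a f = 0 := by
      rw [ha, polar_neg_left, polar_sub_left, polar_sub_left, polar_smul_left, polar_self, hqf, hef]
      simp
    have hqa : q a = -polar q f1 f := by
      rw [ha, QuadraticMap.map_neg, show f1 - f - polar q f1 f • e = f1 + (-(f + polar q f1 f • e)) by abel,
        QuadraticMap.map_add q f1, QuadraticMap.map_neg, QuadraticMap.map_add q f, QuadraticMap.map_smul,
        polar_neg_right, polar_add_right, polar_smul_right, polar_smul_right, hqf1, hqf, he, polar_comm q f e, hef,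
        polar_comm q f1 e, hef1]
      simp
    have hEf : eichler q e a he hea f = f1 := by
      rw [eichler_apply, haf, hef, hqa, ha]
      module
    have hEe : eichler q e a he hea e = e := by
      rw [eichler_apply, hee, polar_comm q a e, hea]
      simp
    set g2 := (eichler q e a he hea)⁻¹ * g1 with hg2
    have hg2O : g2 ∈ QuadGrp.O q := (QuadGrp.O q).mul_mem ((QuadGrp.O q).inv_mem (eichler_mem_O q e a he hea)) hg1O
    -- enlarge `F`
    set F' := F ⊔ Submodule.span K {e, f} with hF'
    have hlt : F < F' := lt_of_le_of_ne le_sup_left fun heq => by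
      have : e ∈ F := by rw [heq]; exact Submodule.mem_sup_right (Submodule.subset_span (Set.mem_insert e _))
      have := hfW e this
      rw [polar_comm, hef] at this
      exact one_ne_zero this
    have hspan : ∀ {G : V ≃ₗ[K] V}, (∀ x ∈ F, G x = x) → G e = e → G f = f → ∀ x ∈ F', G x = x := by
      intro G h1 h2 h3 x hx
      obtain ⟨p, hp, z, hz, rfl⟩ := Submodule.mem_sup.mp hx
      obtain ⟨s, t, rfl⟩ := Submodule.mem_span_pair.mp hz
      rw [map_add, map_add, map_smul, map_smul, h1 p hp, h2, h3]
    have hg2F' : ∀ x ∈ F', g2 x = x := by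
      refine hspan (fun x hx => ?_) ?_ ?_
      · rw [hg2, LinearEquiv.mul_apply, hg1F x hx]
        exact (eichler q e a he hea).symm_apply_eq.mpr (heichF a he hea haW x hx).symm
      · rw [hg2, LinearEquiv.mul_apply, hg1e]
        exact (eichler q e a he hea).symm_apply_eq.mpr hEe.symm
      · rw [hg2, LinearEquiv.mul_apply, ← hf1]
        exact (eichler q e a he hea).symm_apply_eq.mpr hEf.symm
    have hF'dec : ∀ x, ∃ p ∈ F', ∀ y ∈ F', polar q (x - p) y = 0 := by
      intro x
      obtain ⟨p, hp, hpx⟩ := hF x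
      set w := x - p with hw
      refine ⟨p + (polar q w f • e + polar q w e • f), Submodule.add_mem _ (Submodule.mem_sup_left hp)
        (Submodule.mem_sup_right (Submodule.mem_span_pair.mpr ⟨_, _, rfl⟩)), fun y hy => ?_⟩
      obtain ⟨p', hp', z, hz, rfl⟩ := Submodule.mem_sup.mp hy
      obtain ⟨s, t, rfl⟩ := Submodule.mem_span_pair.mp hz
      rw [← sub_sub, ← hw]
      simp only [polar_sub_left, polar_add_left, polar_add_right, polar_smul_left, polar_smul_right, smul_eq_mul,
        hpx p' hp', heW p' hp', hfW p' hp', hee, hef, polar_comm q f e]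
      simp only [polar_self, hqf]
      simp
    have hk' : finrank K V - finrank K F' < k := by
      have h1 := Submodule.finrank_lt_finrank_of_lt hlt
      have h2 := Submodule.finrank_le F'
      omega
    have hg2H := ih _ hk' F' le_rfl hF'dec g2 hg2O hg2F'
    have hgeq : g = h1⁻¹ * (eichler q e a he hea * g2) := by rw [hg2, hg1]; group
    rw [hgeq]
    exact H.mul_mem (H.inv_mem hh1) (H.mul_mem (heich e a he hea) hg2H)
  · push Not at hiso
    -- the complement is at most a line
    by_cases hW : ∀ w, P w → g w = w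
    · have : g = 1 := LinearEquiv.ext fun x => by
        obtain ⟨p, hp, hpx⟩ := hF x
        rw [← add_sub_cancel p x, map_add, hfix p hp, hW _ hpx]
        rfl
      rw [this]; exact H.one_mem
    · push Not at hW
      obtain ⟨a, haW, haga⟩ := hW
      have ha0 : a ≠ 0 := fun h => haga (by rw [h, map_zero])
      have hqa : q a ≠ 0 := hiso a haW ha0
      have hline : ∀ b, P b → ∃ t : K, b = t • a := fun b hb => by
        obtain ⟨T, hT⟩ := exists_isotropic_smul q (b := b) hqa
        refine ⟨-T, ?_⟩
        by_contra hne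
        refine hiso (b + T • a) (fun z hz => ?_) (fun h => hne ?_) hT
        · rw [polar_add_left, polar_smul_left, hb z hz, haW z hz]; simp
        · rw [neg_smul, eq_neg_iff_add_eq_zero, h]
      obtain ⟨t, ht⟩ := hline (g a) (hPg a haW)
      have ht1 : t = -1 := by
        have h := hg a
        rw [ht, QuadraticMap.map_smul, smul_eq_mul] at h
        have h0 : (t - 1) * (t + 1) = 0 := by
          have := mul_right_cancel₀ hqa (h.trans (one_mul _).symm)
          linear_combination this
        rcases mul_eq_zero.mp h0 with h1 | h1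
        · exact absurd (by rw [ht, sub_eq_zero.mp h1, one_smul]) haga
        · exact eq_neg_of_add_eq_zero_left h1
      have hc : (q a)⁻¹ * q a = 1 := inv_mul_cancel₀ hqa
      have : g = refl q a _ hc := LinearEquiv.ext fun x => by
        obtain ⟨p, hp, hpx⟩ := hF x
        obtain ⟨s, hs⟩ := hline _ hpx
        have hx : x = p + s • a := by rw [← hs, add_sub_cancel]
        rw [hx, map_add, map_add, map_smul, map_smul, hfix p hp, ht, refl_apply, refl_apply, haW p hp, polar_self,
          ht1, nsmul_eq_mul, Nat.cast_ofNat, show (q a)⁻¹ * (2 * q a) = 2 * 1 by rw [← hc]; ring]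
        module
      rw [this]; exact hrefl _ _ hc

omit [FiniteDimensional K V] in
theorem closure_pair_eichler_or {g : V ≃ₗ[K] V} (hg : g ∈ Subgroup.closure (reflSet q ∪ eichlerSet q))
    {v0 : V} {c0 : K} (h0 : c0 * q v0 = 1) :
    g ∈ Subgroup.closure (pairSet q ∪ eichlerSet q) ∨
      g * refl q v0 c0 h0 ∈ Subgroup.closure (pairSet q ∪ eichlerSet q) := by
  set C := Subgroup.closure (pairSet q ∪ eichlerSet q) with hC
  set s := refl q v0 c0 h0 with hs
  have hss : s * s = 1 := refl_mul_self q v0 c0 h0
  have hsinv : s⁻¹ = s := inv_eq_of_mul_eq_one_right hss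
  have hsO : s ∈ QuadGrp.O q := refl_mem_O q v0 c0 h0
  have hconj : ∀ c ∈ C, s * c * s ∈ C := fun c hc => by
    have : C.map (MulAut.conj s).toMonoidHom ≤ C := by
      rw [hC, MonoidHom.map_closure, Subgroup.closure_le]
      rintro _ ⟨x, hx, rfl⟩
      refine Subgroup.subset_closure ?_
      show s * x * s⁻¹ ∈ _
      rcases hx with ⟨v, w, c, d, hv, hw, rfl⟩ | ⟨e, a, he, hea, rfl⟩
      · refine Or.inl ⟨s v, s w, c, d, by rw [hsO v, hv], by rw [hsO w, hw], ?_⟩
        rw [show s * (refl q v c hv * refl q w d hw) * s⁻¹ =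
            (s * refl q v c hv * s⁻¹) * (s * refl q w d hw * s⁻¹) by group, conj_refl q hsO, conj_refl q hsO]
      · exact Or.inr ⟨_, _, _, _, conj_eichler q hsO e a he hea⟩
    have := this ⟨c, hc, rfl⟩
    rwa [MulEquiv.coe_toMonoidHom, MulAut.conj_apply, hsinv] at this
  have hpair : ∀ v c h, refl q v c h * s ∈ C := fun v c h =>
    Subgroup.subset_closure (Or.inl ⟨v, v0, c, c0, h, h0, rfl⟩)
  have hinv : ∀ x ∈ reflSet q ∪ eichlerSet q, x⁻¹ ∈ reflSet q ∪ eichlerSet q := by
    rintro _ (⟨v, c, h, rfl⟩ | ⟨e, a, he, hea, rfl⟩)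
    · exact Or.inl ⟨v, c, h, inv_eq_of_mul_eq_one_right (refl_mul_self q v c h)⟩
    · exact Or.inr ⟨_, _, _, _, eichler_inv q e a he hea⟩
  have hstep : ∀ x ∈ reflSet q ∪ eichlerSet q, ∀ y, (y ∈ C ∨ y * s ∈ C) → (x * y ∈ C ∨ x * y * s ∈ C) := by
    rintro _ (⟨v, c, h, rfl⟩ | ⟨e, a, he, hea, rfl⟩) y hy
    · rcases hy with hy | hy
      · right
        have := C.mul_mem (hpair v c h) (hconj y hy)
        rwa [show refl q v c h * s * (s * y * s) = refl q v c h * (s * s) * y * s by group, hss, mul_one] at this
      · left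
        have := C.mul_mem (hpair v c h) (hconj _ hy)
        rwa [show refl q v c h * s * (s * (y * s) * s) = refl q v c h * (s * s) * y * (s * s) by group, hss, mul_one,
          mul_one] at this
    · have hE : eichler q e a he hea ∈ C := Subgroup.subset_closure (Or.inr ⟨e, a, he, hea, rfl⟩)
      rcases hy with hy | hy
      · exact Or.inl (C.mul_mem hE hy)
      · exact Or.inr (by rw [mul_assoc]; exact C.mul_mem hE hy)
  induction hg using Subgroup.closure_induction_left with
  | one => exact Or.inl C.one_mem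
  | mul_left x hx y _ ih => exact hstep x hx y ih
  | inv_mul_cancel x hx y _ ih => exact hstep _ (hinv x hx) y ih

omit [FiniteDimensional K V] in
theorem det_refl {n : ℕ} (b : Module.Basis (Fin n) K V) (v : V) (c : K) (h : c * q v = 1) :
    LinearMap.det (refl q v c h).toLinearMap = -1 := by
  rw [← LinearMap.det_toMatrix b]
  have hM : LinearMap.toMatrix b b (refl q v c h).toLinearMap =
      1 + Matrix.replicateCol Unit (fun i => b.repr v i) * Matrix.replicateRow Unit (fun j => -(c * polar q v (b j))) := by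
    ext i j
    simp [LinearMap.toMatrix_apply, refl_apply, Matrix.mul_apply, Matrix.one_apply, Finsupp.single_apply,
      eq_comm (a := i)]
    ring
  rw [hM, Matrix.det_one_add_replicateCol_mul_replicateRow, dotProduct]
  have : ∑ j, -(c * polar q v (b j)) * b.repr v j = -(c * polar q v v) := by
    have hp : polar q v v = ∑ j, b.repr v j * polar q v (b j) := by
      have h1 := congrArg (q.polarBilin v) (b.sum_repr v)
      rw [map_sum] at h1
      simp only [map_smul, QuadraticMap.polarBilin_apply_apply, smul_eq_mul] at h1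
      exact h1.symm
    rw [hp]
    rw [Finset.mul_sum, ← Finset.sum_neg_distrib]
    exact Finset.sum_congr rfl fun j _ => by ring
  rw [this, polar_self, nsmul_eq_mul, Nat.cast_ofNat]
  linear_combination (-2 : K) * h

variable [IsAlgClosed K]

/-- Even rank: `SO` is generated by pairs of reflections and Eichler transformations. -/
theorem mem_closure_of_even {k : ℕ} (hk : 0 < k) (b : Module.Basis (Fin (2 * k)) K V) (hQ : QuadGrp.IsRegular q)
    {g : V ≃ₗ[K] V} (hg : g ∈ QuadGrp.SO q) : g ∈ Subgroup.closure (pairSet q ∪ eichlerSet q) := by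
  have hev : Even (finrank K V) := by
    rw [Module.finrank_eq_card_basis b, Fintype.card_fin]; exact even_two_mul k
  rw [QuadGrp.SO, if_pos hev] at hg
  obtain ⟨hgO, hgD⟩ := hg
  have hnd : ∀ x, q x = 0 → (∀ y, polar q x y = 0) → x = 0 := fun x _ h =>
    hQ.1 (LinearMap.ext fun y => by simpa using h y)
  obtain ⟨v0, hv0⟩ : ∃ v, q v ≠ 0 := by
    by_contra hall
    push Not at hall
    obtain ⟨i⟩ : Nonempty (Fin (2 * k)) := ⟨⟨0, by omega⟩⟩
    refine b.ne_zero i (hnd _ (hall _) fun y => ?_)
    simp [polar, hall]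
  have h0 : (q v0)⁻¹ * q v0 = 1 := inv_mul_cancel₀ hv0
  refine (closure_pair_eichler_or q (mem_closure_refl_eichler q hnd hgO) h0).resolve_right fun hgs => ?_
  obtain ⟨η, hη⟩ := QuadCliff.exists_eta k q b hQ
  have hle : Subgroup.closure (pairSet q ∪ eichlerSet q) ≤ QuadGrp.SOeven q := by
    have hSO : QuadGrp.SO q = QuadGrp.SOeven q := by rw [QuadGrp.SO, if_pos hev]
    rw [← hSO, Subgroup.closure_le]
    rintro _ (⟨v, w, c, d, hv, hw, rfl⟩ | ⟨e, a, he, hea, rfl⟩)
    · exact refl_pair_mem_SO q b hv hw
    · exact eichler_mem_SO q b e a he hea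
  have hsE : refl q v0 _ h0 ∈ QuadGrp.SOeven q := by
    have := (QuadGrp.SOeven q).mul_mem ((QuadGrp.SOeven q).inv_mem ⟨hgO, hgD⟩) (hle hgs)
    rwa [inv_mul_cancel_left] at this
  obtain ⟨hsO, hsD⟩ := hsE
  have hfix := (isDicksonTrivial_iff b hQ hη _ hsO (by omega)).mp hsD
  refine not_both b hQ hη _ hsO (by omega) hfix ?_
  have hu : IsUnit (ι q v0) := ⟨⟨ι q v0, (q v0)⁻¹ • ι q v0,
    by rw [mul_smul_comm, ι_sq_scalar, Algebra.smul_def, ← map_mul, h0, map_one],
    by rw [smul_mul_assoc, ι_sq_scalar, Algebra.smul_def, ← map_mul, h0, map_one]⟩, rfl⟩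
  have heven : ∀ z ∈ evenOdd q 0, ι q v0 * z = cmap (refl q v0 _ h0) hsO z * ι q v0 := by
    intro z hz
    induction z, hz using even_induction with
    | algebraMap r => rw [AlgHom.commutes]; exact (Algebra.commutes r _).symm
    | add x y _ _ hx hy => rw [map_add, mul_add, add_mul, hx, hy]
    | ι_mul_ι_mul m₁ m₂ x _ hx =>
      rw [map_mul, map_mul, cmap_ι, cmap_ι, ← mul_assoc, ← mul_assoc, refl_conj q v0 _ h0, neg_mul, neg_mul,
        mul_assoc (ι q _) (ι q v0) (ι q m₂), refl_conj q v0 _ h0, mul_neg, neg_mul, neg_neg]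
      simp only [mul_assoc, hx]
  have := heven η hη.mem
  rw [hη.rel v0] at this
  exact (hu.mul_right_cancel this).symm

/-- Odd rank: the determinant-one isometries are generated by pairs of reflections and Eichler transformations. -/
theorem mem_closure_of_odd {n : ℕ} (hn : Odd n) (b : Module.Basis (Fin n) K V)
    (hq : QuadGrp.IsSemiregular b (LinearEquiv.refl K K) q)
    {g : V ≃ₗ[K] V} (hg : g ∈ QuadGrp.SO q) : g ∈ Subgroup.closure (pairSet q ∪ eichlerSet q) := by
  classical
  have hodd : ¬Even (finrank K V) := by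
    rw [Module.finrank_eq_card_basis b, Fintype.card_fin]; exact Nat.not_even_iff_odd.mpr hn
  rw [QuadGrp.SO, if_neg hodd] at hg
  obtain ⟨hgO, hgdet⟩ := hg
  have hnondeg := (QuadGrpLib.nondegenerate_iff_halfDisc_ne_zero hn b q).mpr (IsUnit.ne_zero hq)
  have hnd : ∀ x, q x = 0 → (∀ y, polar q x y = 0) → x = 0 := fun x hx h => by
    have := QuadGrpLib.mem_radical_of (Q := q) (x := x)
      (LinearMap.mem_ker.mpr (LinearMap.ext fun y => by simpa using h y)) hx
    rwa [hnondeg.1, Submodule.mem_bot] at this
  obtain ⟨v0, hv0⟩ : ∃ v, q v ≠ 0 := by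
    by_contra hall
    push Not at hall
    refine b.ne_zero ⟨0, hn.pos⟩ (hnd _ (hall _) fun y => ?_)
    simp [polar, hall]
  by_cases h2 : (2 : K) = 0
  · obtain ⟨B, hB⟩ := QuadGrpLib.exists_lift b q
    set U : Matrix (Fin n) (Fin n) K := Matrix.of fun i j => B (b i) (b j) with hU
    have hdet : (U + U.transpose).det = 0 := by rw [← QuadGrpLib.two_mul_hU hn, h2, zero_mul]
    obtain ⟨y, hy0, hy⟩ := Matrix.exists_vecMul_eq_zero_iff.mpr hdet
    set r : V := b.equivFun.symm y with hrdef
    have hry : ⇑(b.repr r) = y := by rw [← b.equivFun_apply, hrdef, LinearEquiv.apply_symm_apply]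
    have hrker : ∀ x, polar q r x = 0 := fun x => by
      have h := (QuadGrpLib.mem_ker_iff b B r).mpr (by rw [hry]; exact hy)
      rw [LinearMap.mem_ker] at h
      subst hB
      exact LinearMap.congr_fun h x
    have hr0 : r ≠ 0 := fun h => hy0 (by rw [← hry, h]; simp)
    have hc : (q r)⁻¹ * q r = 1 := inv_mul_cancel₀ fun h => hr0 (hnd r h hrker)
    have hone : refl q r _ hc = 1 := LinearEquiv.ext fun x => by
      rw [refl_apply, hrker, mul_zero, zero_smul, sub_zero]; rfl
    rcases closure_pair_eichler_or q (mem_closure_refl_eichler q hnd hgO) hc with h | h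
    · exact h
    · rwa [hone, mul_one] at h
  · have h0 : (q v0)⁻¹ * q v0 = 1 := inv_mul_cancel₀ hv0
    refine (closure_pair_eichler_or q (mem_closure_refl_eichler q hnd hgO) h0).resolve_right fun hgs => ?_
    have hle : Subgroup.closure (pairSet q ∪ eichlerSet q) ≤ QuadGrp.SO q := by
      rw [Subgroup.closure_le]
      rintro _ (⟨v, w, c, d, hv, hw, rfl⟩ | ⟨e, a, he, hea, rfl⟩)
      · exact refl_pair_mem_SO q b hv hw
      · exact eichler_mem_SO q b e a he hea
    have hmem := hle hgs
    rw [QuadGrp.SO, if_neg hodd] at hmem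
    have hd := congrArg Units.val (MonoidHom.mem_ker.mp hmem.2)
    rw [map_mul, MonoidHom.mem_ker.mp hgdet, one_mul, LinearEquiv.coe_det, det_refl q b, Units.val_one] at hd
    exact h2 (by linear_combination -hd)

end QuadConn
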