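import Groth.Agent.QuadCliff.Global
import Groth.Agent.QuadGrpL.Center
import Mathlib.Tactic

/-!
Reflections and Eichler transformations of a quadratic module.
-/

namespace QuadConn

open CliffordAlgebra QuadCliff TensorProduct QuadraticMap

universe u v

section General

variable {A : Type u} [CommRing A] {M : Type v} [AddCommGroup M] [Module A M] (q : QuadraticForm A M)

/-- The reflection `x ↦ x - c B(x,v) v`. -/
noncomputable def reflLin (v : M) (c : A) : M →ₗ[A] M :=
  LinearMap.id - (c • q.polarBilin v).smulRight v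

theorem reflLin_apply (v : M) (c : A) (x : M) : reflLin q v c x = x - (c * polar q v x) • v := rfl

/-- The reflection at a vector of unit value. -/
noncomputable def refl (v : M) (c : A) (h : c * q v = 1) : M ≃ₗ[A] M :=
  LinearEquiv.ofInvolutive (reflLin q v c) fun x => by
    rw [reflLin_apply, reflLin_apply, polar_sub_right, polar_smul_right, polar_self, nsmul_eq_mul, smul_eq_mul,
      Nat.cast_ofNat, show c * (polar q v x - c * polar q v x * (2 * q v)) = -(c * polar q v x) by
        linear_combination (-2 * c * polar q v x) * h, neg_smul, sub_neg_eq_add, sub_add_cancel]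

theorem refl_apply (v : M) (c : A) (h : c * q v = 1) (x : M) :
    refl q v c h x = x - (c * polar q v x) • v := rfl

theorem refl_mul_self (v : M) (c : A) (h : c * q v = 1) : refl q v c h * refl q v c h = 1 := by
  refine LinearEquiv.ext fun x => ?_
  show refl q v c h (refl q v c h x) = x
  exact (refl q v c h).toEquiv.apply_eq_iff_eq_symm_apply.mpr rfl

theorem refl_mem_O (v : M) (c : A) (h : c * q v = 1) : refl q v c h ∈ QuadGrp.O q := fun x => by
  rw [refl_apply, sub_eq_add_neg, ← neg_smul, QuadraticMap.map_add q x, QuadraticMap.map_smul, polar_smul_right,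
    polar_comm q x v]
  simp only [smul_eq_mul]
  linear_combination (c * polar q v x * polar q v x) * h

theorem refl_conj (v : M) (c : A) (h : c * q v = 1) (x : M) :
    ι q v * ι q x = -(ι q (refl q v c h x) * ι q v) := by
  rw [refl_apply, map_sub, map_smul, sub_mul, smul_mul_assoc, ι_sq_scalar, Algebra.smul_def,
    ← map_mul (algebraMap A (CliffordAlgebra q)),
    show c * polar q v x * q v = polar q v x by linear_combination (polar q v x) * h, neg_sub,
    ← ι_mul_ι_add_swap, add_sub_cancel_right]

/-- The Eichler transformation `x ↦ x + B(a,x) e - B(e,x) a - q(a) B(e,x) e`. -/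
noncomputable def eichlerLin (e a : M) : M →ₗ[A] M :=
  LinearMap.id + ((q.polarBilin a).smulRight e - (q.polarBilin e).smulRight a -
    (q a • q.polarBilin e).smulRight e)

theorem eichlerLin_apply (e a x : M) :
    eichlerLin q e a x = x + (polar q a x • e - polar q e x • a - (q a * polar q e x) • e) := rfl

theorem eichlerLin_comp (e a : M) (he : q e = 0) (hea : polar q e a = 0) (x : M) :
    eichlerLin q e (-a) (eichlerLin q e a x) = x := by
  have hae : polar q a e = 0 := by rw [polar_comm, hea]
  have hee : polar q e e = 0 := by rw [polar_self, he, smul_zero]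
  have h1 : polar q a (eichlerLin q e a x) = polar q a x - 2 * q a * polar q e x := by
    rw [eichlerLin_apply, polar_add_right, polar_sub_right, polar_sub_right, polar_smul_right, polar_smul_right,
      polar_smul_right, hae, polar_self, nsmul_eq_mul, Nat.cast_ofNat]
    simp only [smul_eq_mul]; ring
  have h2 : polar q e (eichlerLin q e a x) = polar q e x := by
    rw [eichlerLin_apply, polar_add_right, polar_sub_right, polar_sub_right, polar_smul_right, polar_smul_right,
      polar_smul_right, hee, hea]
    simp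
  rw [eichlerLin_apply q e (-a), polar_neg_left, h1, h2, QuadraticMap.map_neg, eichlerLin_apply]
  module

/-- The Eichler transformation of an isotropic vector `e` and `a` orthogonal to it. -/
noncomputable def eichler (e a : M) (he : q e = 0) (hea : polar q e a = 0) : M ≃ₗ[A] M :=
  LinearEquiv.ofLinearMap (eichlerLin q e a) (eichlerLin q e (-a))
    (LinearMap.ext fun x => by
      have h := eichlerLin_comp q e (-a) he (by rw [polar_neg_right, hea, neg_zero]) x
      rwa [neg_neg] at h)
    (LinearMap.ext fun x => eichlerLin_comp q e a he hea x)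

theorem eichler_apply (e a : M) (he : q e = 0) (hea : polar q e a = 0) (x : M) :
    eichler q e a he hea x = x + (polar q a x • e - polar q e x • a - (q a * polar q e x) • e) := rfl

theorem eichler_inv (e a : M) (he : q e = 0) (hea : polar q e a = 0) :
    (eichler q e a he hea)⁻¹ = eichler q e (-a) he (by rw [polar_neg_right, hea, neg_zero]) :=
  LinearEquiv.ext fun _ => rfl

theorem eichler_conj (e a : M) (he : q e = 0) (hea : polar q e a = 0) (x : M) :
    (1 + ι q e * ι q a) * ι q x = ι q (eichler q e a he hea x) * (1 + ι q e * ι q a) := by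
  rw [eichler_apply, map_add, map_sub, map_sub, map_smul, map_smul, map_smul]
  set E := ι q e
  set F := ι q a
  set X := ι q x
  have hEE : E * E = 0 := by rw [ι_sq_scalar, he, map_zero]
  have hFF : F * F = q a • (1 : CliffordAlgebra q) := by rw [ι_sq_scalar, Algebra.algebraMap_eq_smul_one]
  have hFE : F * E = -(E * F) := by
    rw [← add_eq_zero_iff_eq_neg, ι_mul_ι_add_swap, polar_comm, hea, map_zero]
  have hFX : F * X = polar q a x • (1 : CliffordAlgebra q) - X * F := eq_sub_of_add_eq (by
    rw [ι_mul_ι_add_swap, Algebra.algebraMap_eq_smul_one])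
  have hEX : E * X = polar q e x • (1 : CliffordAlgebra q) - X * E := eq_sub_of_add_eq (by
    rw [ι_mul_ι_add_swap, Algebra.algebraMap_eq_smul_one])
  have h1 : E * F * X = polar q a x • E - polar q e x • F + X * (E * F) := by
    rw [mul_assoc, hFX, mul_sub, ← mul_assoc E X, hEX, mul_smul_comm, mul_one, sub_mul, smul_mul_assoc, one_mul,
      mul_assoc X E F]
    module
  have h2 : F * (E * F) = -(q a • E) := by
    rw [← mul_assoc, hFE, neg_mul, mul_assoc, hFF, mul_smul_comm, mul_one]
  have h3 : E * (E * F) = 0 := by rw [← mul_assoc, hEE, zero_mul]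
  simp only [mul_add, add_mul, sub_mul, smul_mul_assoc, mul_one, one_mul, h1, h2, h3, smul_zero]
  module

theorem eichler_mem_O (e a : M) (he : q e = 0) (hea : polar q e a = 0) :
    eichler q e a he hea ∈ QuadGrp.O q := fun x => by
  rw [eichler_apply, show x + (polar q a x • e - polar q e x • a - (q a * polar q e x) • e) =
    x + ((polar q a x - q a * polar q e x) • e + (-polar q e x) • a) by module,
    QuadraticMap.map_add q x, QuadraticMap.map_add q, QuadraticMap.map_smul, QuadraticMap.map_smul, polar_smul_left,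
    polar_smul_right, polar_add_right, polar_smul_right, polar_smul_right, hea, he]
  simp only [smul_eq_mul, polar_comm q x e, polar_comm q x a]
  ring

/-- An isometry induced by conjugation with an even unit is in the special orthogonal group. -/
theorem mem_SO_of_even_unit {n : ℕ} (b : Module.Basis (Fin n) A M) (g : M ≃ₗ[A] M) (hg : g ∈ QuadGrp.O q)
    (u : (CliffordAlgebra q)ˣ) (hu : ∀ v, (u : CliffordAlgebra q) * ι q v = ι q (g v) * u)
    (hu0 : (u : CliffordAlgebra q) ∈ evenOdd q 0) : g ∈ QuadGrp.SO q := by
  rw [QuadGrp.SO]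
  split
  · refine ⟨hg, fun z hz => ?_⟩
    have h := conj_cmap hg hu (z : CliffordAlgebra q)
    rw [← (mem_center_iff_comm z).mp hz _ hu0] at h
    exact (u.isUnit.mul_right_cancel h).symm
  · refine ⟨hg, MonoidHom.mem_ker.mpr (Units.ext ?_)⟩
    rw [LinearEquiv.coe_det, Units.val_one]
    exact det_of_even_unit b g hg u hu hu0

theorem refl_pair_mem_SO {n : ℕ} (b : Module.Basis (Fin n) A M) {v w : M} {c d : A} (hv : c * q v = 1)
    (hw : d * q w = 1) : refl q v c hv * refl q w d hw ∈ QuadGrp.SO q := by
  have hvv : ι q v * ι q v = algebraMap A _ (q v) := ι_sq_scalar _ _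
  have hww : ι q w * ι q w = algebraMap A _ (q w) := ι_sq_scalar _ _
  have h1 : ι q v * ι q w * ((c * d) • (ι q w * ι q v)) = 1 := by
    rw [mul_smul_comm, mul_assoc, ← mul_assoc (ι q w), hww, Algebra.commutes, ← mul_assoc, hvv, ← map_mul,
      Algebra.smul_def, ← map_mul, show c * d * (q v * q w) = 1 by linear_combination (d * q w) * hv + hw, map_one]
  have h2 : (c * d) • (ι q w * ι q v) * (ι q v * ι q w) = 1 := by
    rw [smul_mul_assoc, mul_assoc, ← mul_assoc (ι q v), hvv, Algebra.commutes, ← mul_assoc, hww, ← map_mul,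
      Algebra.smul_def, ← map_mul, show c * d * (q w * q v) = 1 by linear_combination (d * q w) * hv + hw, map_one]
  refine mem_SO_of_even_unit q b _ ((QuadGrp.O q).mul_mem (refl_mem_O q v c hv) (refl_mem_O q w d hw))
    ⟨_, _, h1, h2⟩ (fun x => ?_) (ι_mul_ι_mem_evenOdd_zero q v w)
  show ι q v * ι q w * ι q x = ι q (refl q v c hv (refl q w d hw x)) * (ι q v * ι q w)
  rw [mul_assoc, refl_conj q w d hw, mul_neg, ← mul_assoc, refl_conj q v c hv, neg_mul, neg_neg, mul_assoc]

theorem eichler_mem_SO {n : ℕ} (b : Module.Basis (Fin n) A M) (e a : M) (he : q e = 0) (hea : polar q e a = 0) :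
    eichler q e a he hea ∈ QuadGrp.SO q := by
  have h0 : ι q e * ι q a * (ι q e * ι q a) = 0 := by
    rw [mul_assoc, ← mul_assoc (ι q a), show ι q a * ι q e = -(ι q e * ι q a) by
      rw [← add_eq_zero_iff_eq_neg, ι_mul_ι_add_swap, polar_comm, hea, map_zero], neg_mul, mul_neg, ← mul_assoc,
      ← mul_assoc, ι_sq_scalar, he, map_zero, zero_mul, zero_mul, neg_zero]
  exact mem_SO_of_even_unit q b _ (eichler_mem_O q e a he hea)
    ⟨1 + ι q e * ι q a, 1 - ι q e * ι q a, by simp [mul_sub, add_mul, h0], by simp [mul_add, sub_mul, h0]⟩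
    (eichler_conj q e a he hea) (Submodule.add_mem _ (SetLike.one_mem_graded _) (ι_mul_ι_mem_evenOdd_zero q e a))

theorem conj_refl {g : M ≃ₗ[A] M} (hg : g ∈ QuadGrp.O q) (v : M) (c : A) (h : c * q v = 1) :
    g * refl q v c h * g⁻¹ = refl q (g v) c (by rw [hg v, h]) := by
  refine LinearEquiv.ext fun x => ?_
  have hp : polar q (g v) x = polar q v (g.symm x) := by
    conv_lhs => rw [← g.apply_symm_apply x]
    simp only [polar, ← map_add, hg _]
  show g (refl q v c h (g.symm x)) = _
  rw [refl_apply, refl_apply, map_sub, map_smul, LinearEquiv.apply_symm_apply, hp]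

theorem conj_eichler {g : M ≃ₗ[A] M} (hg : g ∈ QuadGrp.O q) (e a : M) (he : q e = 0) (hea : polar q e a = 0) :
    g * eichler q e a he hea * g⁻¹ = eichler q (g e) (g a) (by rw [hg e, he])
      (by simp only [polar, ← map_add, hg _]; exact hea) := by
  refine LinearEquiv.ext fun x => ?_
  have hp : ∀ y, polar q (g y) x = polar q y (g.symm x) := fun y => by
    conv_lhs => rw [← g.apply_symm_apply x]
    simp only [polar, ← map_add, hg _]
  show g (eichler q e a he hea (g.symm x)) = _
  rw [eichler_apply, eichler_apply, map_add, map_sub, map_sub, map_smul, map_smul, map_smul,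
    LinearEquiv.apply_symm_apply, hp, hp, hg a]

end General

section BaseChange

variable {R : Type u} [CommRing R] {n : ℕ} (Q : QuadraticForm R (Fin n → R))
  {A B : Type u} [CommRing A] [Algebra R A] [CommRing B] [Algebra R B] (φ : A →ₐ[R] B)

/-- The scalar extension of vectors along `φ`. -/
noncomputable abbrev ext' : A ⊗[R] (Fin n → R) →ₗ[R] B ⊗[R] (Fin n → R) :=
  LinearMap.rTensor (Fin n → R) φ.toLinearMap

theorem ext'_smul (a : A) (t : A ⊗[R] (Fin n → R)) : ext' φ (a • t) = φ a • ext' φ t := by
  induction t using TensorProduct.induction_on with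
  | zero => simp
  | add s t hs ht => simp only [smul_add, map_add, hs, ht]
  | tmul b v => simp [TensorProduct.smul_tmul']

theorem polar_ext' (x y : A ⊗[R] (Fin n → R)) :
    polar (QuadGrp.baseChangeForm B Q) (ext' φ x) (ext' φ y) = φ (polar (QuadGrp.baseChangeForm A Q) x y) := by
  induction x using TensorProduct.induction_on with
  | zero => simp
  | add s t hs ht => simp only [map_add, polar_add_left, hs, ht]
  | tmul a v =>
    induction y using TensorProduct.induction_on with
    | zero => simp
    | add s t hs ht => simp only [map_add, polar_add_right, hs, ht]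
    | tmul c w =>
      rw [show a ⊗ₜ[R] v = a • ((1 : A) ⊗ₜ[R] v) by rw [TensorProduct.smul_tmul', smul_eq_mul, mul_one],
        show c ⊗ₜ[R] w = c • ((1 : A) ⊗ₜ[R] w) by rw [TensorProduct.smul_tmul', smul_eq_mul, mul_one],
        ext'_smul, ext'_smul, polar_smul_left, polar_smul_right, polar_smul_left, polar_smul_right]
      simp only [LinearMap.rTensor_tmul, AlgHom.toLinearMap_apply, map_one, QuadGrpLib.polar_baseChangeForm,
        smul_eq_mul, map_mul, AlgHom.commutes]

theorem form_ext' (x : A ⊗[R] (Fin n → R)) :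
    QuadGrp.baseChangeForm B Q (ext' φ x) = φ (QuadGrp.baseChangeForm A Q x) := by
  induction x using TensorProduct.induction_on with
  | zero => simp
  | add s t hs ht =>
    rw [map_add, QuadraticMap.map_add (QuadGrp.baseChangeForm B Q), QuadraticMap.map_add (QuadGrp.baseChangeForm A Q), map_add, map_add, hs, ht, polar_ext' Q φ]
  | tmul a v =>
    rw [show a ⊗ₜ[R] v = a • ((1 : A) ⊗ₜ[R] v) by rw [TensorProduct.smul_tmul', smul_eq_mul, mul_one],
      ext'_smul, QuadraticMap.map_smul, QuadraticMap.map_smul, LinearMap.rTensor_tmul, AlgHom.toLinearMap_apply,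
      map_one, baseChangeForm_one_tmul, baseChangeForm_one_tmul, smul_eq_mul, smul_eq_mul, map_mul, map_mul,
      AlgHom.commutes]

/-- `gB` is the image of `gA` along `φ`. -/
def Compat (gA : (A ⊗[R] (Fin n → R)) ≃ₗ[A] (A ⊗[R] (Fin n → R)))
    (gB : (B ⊗[R] (Fin n → R)) ≃ₗ[B] (B ⊗[R] (Fin n → R))) : Prop :=
  ∀ x, gB (ext' φ x) = ext' φ (gA x)

theorem Compat.mul {g h : (A ⊗[R] (Fin n → R)) ≃ₗ[A] (A ⊗[R] (Fin n → R))}
    {g' h' : (B ⊗[R] (Fin n → R)) ≃ₗ[B] (B ⊗[R] (Fin n → R))} (hg : Compat φ g g') (hh : Compat φ h h') :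
    Compat φ (g * h) (g' * h') := fun x => by
  show g' (h' (ext' φ x)) = ext' φ (g (h x))
  rw [hh, hg]

theorem compat_refl {v : A ⊗[R] (Fin n → R)} {v' : B ⊗[R] (Fin n → R)} (hvv : ext' φ v = v') {c : A} {c' : B}
    (h : c * QuadGrp.baseChangeForm A Q v = 1) (h' : c' * QuadGrp.baseChangeForm B Q v' = 1) :
    Compat φ (refl _ v c h) (refl _ v' c' h') := fun x => by
  subst hvv
  have hc : c' = φ c := by
    have h1 := congrArg φ h
    rw [map_mul, map_one, ← form_ext' Q φ] at h1
    exact left_inv_eq_right_inv h' (by rwa [mul_comm] at h1)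
  rw [refl_apply, refl_apply, map_sub, ext'_smul, map_mul, polar_ext' Q φ, hc]

theorem compat_eichler {e a : A ⊗[R] (Fin n → R)} {e' a' : B ⊗[R] (Fin n → R)} (hee : ext' φ e = e')
    (haa : ext' φ a = a') (he : QuadGrp.baseChangeForm A Q e = 0)
    (hea : polar (QuadGrp.baseChangeForm A Q) e a = 0) (he' : QuadGrp.baseChangeForm B Q e' = 0)
    (hea' : polar (QuadGrp.baseChangeForm B Q) e' a' = 0) :
    Compat φ (eichler _ e a he hea) (eichler _ e' a' he' hea') := fun x => by
  subst hee haa
  rw [eichler_apply, eichler_apply, map_add, map_sub, map_sub, ext'_smul, ext'_smul, ext'_smul, map_mul,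
    polar_ext' Q φ, polar_ext' Q φ, form_ext' Q φ]

end BaseChange

end QuadConn
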