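import Groth.Agent.QuadSch.Yoneda
import Mathlib.AlgebraicGeometry.Fiber
import Mathlib.AlgebraicGeometry.PullbackCarrier
import Mathlib.AlgebraicGeometry.Pullbacks
import Mathlib.FieldTheory.IsAlgClosed.AlgebraicClosure
import Mathlib.RingTheory.FiniteStability
import Mathlib.RingTheory.Jacobson.Ring
import Mathlib.CategoryTheory.Monoidal.Cartesian.Mon
import Mathlib.RingTheory.LocalRing.ResidueField.Ideal
import Mathlib.Tactic

/-!
A group scheme whose geometric points are generated by points deformable to the identity along domains has connected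
fibres.
-/

namespace QuadConn

open CategoryTheory AlgebraicGeometry Limits QuadSch TensorProduct Algebra.TensorProduct
open scoped MonObj

universe u

variable {R : Type u} [CommRing R] {X : Over (Spec (CommRingCat.of R))} [GrpObj X]

/-- The points joined to the identity by a family over a domain. -/
def PtReach (X : Over (Spec (CommRingCat.of R))) [GrpObj X] (K : Type u) [Field K] [Algebra R K] :
    Set (QuadGrp.specOver R K ⟶ X) :=
  {g | ∃ (A : Type u) (_ : CommRing A) (_ : IsDomain A) (_ : Algebra R A) (j : K →ₐ[R] A)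
    (γ : QuadGrp.specOver R A ⟶ X) (e0 e1 : A →ₐ[R] K), e0.comp j = AlgHom.id R K ∧ e1.comp j = AlgHom.id R K ∧
      QuadGrp.specOverMap R e0 ≫ γ = 1 ∧ QuadGrp.specOverMap R e1 ≫ γ = g}

variable {S : Type u} [CommRing S] [Algebra R S] (P : PointsEquiv X S)
  (K : Type u) [Field K] [Algebra R K]

/-- The point of the geometric fibre. -/
noncomputable def ptPrime (φ : S →ₐ[R] K) : PrimeSpectrum (K ⊗[R] S) :=
  PrimeSpectrum.comap (productMap (AlgHom.id R K) φ).toRingHom ⟨⊥, Ideal.isPrime_bot⟩

omit [GrpObj X] in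
theorem connectedComponent_eq_of_family {A : Type u} [CommRing A] [IsDomain A] [Algebra R A] (j : K →ₐ[R] A)
    (f : S →ₐ[R] A) (e0 e1 : A →ₐ[R] K) (h0 : e0.comp j = AlgHom.id R K) (h1 : e1.comp j = AlgHom.id R K) :
    connectedComponent (ptPrime K (e0.comp f)) = connectedComponent (ptPrime K (e1.comp f)) := by
  have hconn : _root_.IsPreconnected (Set.range (PrimeSpectrum.comap (productMap j f).toRingHom)) :=
    isPreconnected_range (PrimeSpectrum.continuous_comap _)
  have hmem : ∀ e : A →ₐ[R] K, e.comp j = AlgHom.id R K →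
      ptPrime K (e.comp f) ∈ Set.range (PrimeSpectrum.comap (productMap j f).toRingHom) := fun e he => by
    refine ⟨PrimeSpectrum.comap e.toRingHom ⟨⊥, Ideal.isPrime_bot⟩, ?_⟩
    have : productMap (AlgHom.id R K) (e.comp f) = e.comp (productMap j f) := by
      refine Algebra.TensorProduct.ext' fun k s => ?_
      simp [← AlgHom.congr_fun he k]
    rw [ptPrime, this]
    rfl
  exact connectedComponent_eq ((hconn.subset_connectedComponent (hmem e0 h0)) (hmem e1 h1))

include P in
theorem connectedSpace_geometric [IsAlgClosed K] [Algebra.FiniteType R S]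
    (H : Subgroup.closure (PtReach X K) = ⊤) : ConnectedSpace (PrimeSpectrum (K ⊗[R] S)) := by
  let c : (QuadGrp.specOver R K ⟶ X) → Set (PrimeSpectrum (K ⊗[R] S)) :=
    fun y => connectedComponent (ptPrime K (P.toHom K y))
  have hall : ∀ g h, c (h * g) = c h := by
    intro g
    have hg : g ∈ Subgroup.closure (PtReach X K) := H ▸ Subgroup.mem_top g
    induction hg using Subgroup.closure_induction with
    | mem g hg =>
      intro h
      obtain ⟨A, _, _, _, j, γ, e0, e1, h0, h1, hγ0, hγ1⟩ := hg
      have hconst : ∀ e : A →ₐ[R] K, e.comp j = AlgHom.id R K →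
          QuadGrp.specOverMap R e ≫ (QuadGrp.specOverMap R j ≫ h) = h := fun e he => by
        apply (P.toHom K).injective
        rw [P.natural, P.natural, ← AlgHom.comp_assoc, he, AlgHom.id_comp]
      have e0' : P.toHom K h = e0.comp (P.toHom A ((QuadGrp.specOverMap R j ≫ h) * γ)) := by
        rw [← P.natural, MonObj.comp_mul, hγ0, hconst e0 h0, mul_one]
      have e1' : P.toHom K (h * g) = e1.comp (P.toHom A ((QuadGrp.specOverMap R j ≫ h) * γ)) := by
        rw [← P.natural, MonObj.comp_mul, hγ1, hconst e1 h1]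
      show connectedComponent _ = connectedComponent _
      rw [e0', e1']
      exact (connectedComponent_eq_of_family K j _ e0 e1 h0 h1).symm
    | one => intro h; rw [mul_one]
    | mul a b _ _ ha hb => intro h; rw [← mul_assoc, hb, ha]
    | inv a _ ha => intro h; have := ha (h * a⁻¹); rwa [inv_mul_cancel_right, eq_comm] at this
  have hclosed : ∀ m : PrimeSpectrum (K ⊗[R] S), m.asIdeal.IsMaximal →
      ∃ φ : S →ₐ[R] K, ptPrime K φ = m := by
    intro m hm
    letI : Field ((K ⊗[R] S) ⧸ m.asIdeal) := Ideal.Quotient.field m.asIdeal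
    haveI : Module.Finite K ((K ⊗[R] S) ⧸ m.asIdeal) := finite_of_finite_type_of_isJacobsonRing K _
    have hb : Function.Bijective (Algebra.ofId K ((K ⊗[R] S) ⧸ m.asIdeal)) :=
      IsAlgClosed.algebraMap_bijective_of_isIntegral
    let ψ : K ⊗[R] S →ₐ[K] K :=
      (AlgEquiv.ofBijective (Algebra.ofId K _) hb).symm.toAlgHom.comp (Ideal.Quotient.mkₐ K m.asIdeal)
    refine ⟨(ψ.restrictScalars R).comp includeRight, PrimeSpectrum.ext ?_⟩
    have hψ : productMap (AlgHom.id R K) ((ψ.restrictScalars R).comp includeRight) = ψ.restrictScalars R := by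
      refine Algebra.TensorProduct.ext' fun k s => ?_
      rw [productMap_apply_tmul, show k ⊗ₜ[R] s = algebraMap K (K ⊗[R] S) k * (1 ⊗ₜ[R] s) by
        simp [Algebra.TensorProduct.algebraMap_apply], AlgHom.restrictScalars_apply, map_mul, AlgHom.commutes]
      simp
    rw [ptPrime, hψ]
    ext x
    show ψ x ∈ (⊥ : Ideal K) ↔ _
    rw [Ideal.mem_bot, ← Ideal.Quotient.eq_zero_iff_mem]
    exact (AlgEquiv.ofBijective (Algebra.ofId K _) hb).symm.map_eq_zero_iff
  rw [connectedSpace_iff_connectedComponent]
  refine ⟨ptPrime K (P.toHom K 1), Set.eq_univ_of_forall fun x => ?_⟩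
  obtain ⟨m, hm, hle⟩ := Ideal.exists_le_maximal _ x.isPrime.ne_top
  obtain ⟨φ, hφ⟩ := hclosed ⟨m, hm.isPrime⟩ hm
  have hmx : (⟨m, hm.isPrime⟩ : PrimeSpectrum (K ⊗[R] S)) ∈ connectedComponent x := by
    refine closure_minimal (Set.singleton_subset_iff.mpr mem_connectedComponent) isClosed_connectedComponent ?_
    rw [← specializes_iff_mem_closure, ← PrimeSpectrum.le_iff_specializes]
    exact hle
  have e := hall ((P.toHom K).symm φ) 1
  rw [one_mul] at e
  have h2 : connectedComponent (ptPrime K (P.toHom K 1)) = connectedComponent x := by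
    rw [connectedComponent_eq hmx, ← hφ]
    have := e.symm
    simpa only [c, Equiv.apply_symm_apply] using this
  rw [h2]
  exact mem_connectedComponent

include P in
/-- The fibres are connected. -/
theorem connectedSpace_fiber [Algebra.FiniteType R S]
    (H : ∀ (K : Type u) [Field K] [IsAlgClosed K] [Algebra R K], Subgroup.closure (PtReach X K) = ⊤)
    (s : ↥(Spec (CommRingCat.of R))) : ConnectedSpace ↥(X.hom.fiber s) := by
  let K := AlgebraicClosure s.asIdeal.ResidueField
  haveI := connectedSpace_geometric P K (H K)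
  let q : Spec (CommRingCat.of (K ⊗[R] S)) ⟶ X.left :=
    Spec.map (CommRingCat.ofHom ((includeRight : S →ₐ[R] K ⊗[R] S) : S →+* K ⊗[R] S)) ≫ P.iso.hom
  let π : Spec (CommRingCat.of K) ⟶ Spec (CommRingCat.of R) := Spec.map (CommRingCat.ofHom (algebraMap R K))
  have hπ : ∀ k : ↥(Spec (CommRingCat.of K)), π k = s := fun k => by
    refine PrimeSpectrum.ext ?_
    show Ideal.comap (algebraMap R K) k.asIdeal = s.asIdeal
    rw [(Ideal.eq_bot_or_top k.asIdeal).resolve_right k.isPrime.ne_top]
    ext r
    rw [Ideal.mem_comap, Ideal.mem_bot, IsScalarTower.algebraMap_apply R s.asIdeal.ResidueField K,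
      FaithfulSMul.algebraMap_eq_zero_iff, Ideal.algebraMap_residueField_eq_zero]
  have hrange : Set.range q = X.hom ⁻¹' {s} := by
    refine Set.Subset.antisymm ?_ ?_
    · rintro _ ⟨z, rfl⟩
      have hc : q ≫ X.hom = Spec.map (CommRingCat.ofHom (algebraMap K (K ⊗[R] S))) ≫ π := by
        rw [Category.assoc, P.iso_hom_comp, ← Spec.map_comp, ← Spec.map_comp, ← CommRingCat.ofHom_comp,
          ← CommRingCat.ofHom_comp]
        congr 2
        ext r
        exact ((includeRight (R := R) (A := K) (B := S)).commutes r).trans (IsScalarTower.algebraMap_apply R K _ r)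
      have := congrArg (fun f => f z) hc
      simp only [Scheme.Hom.comp_apply] at this
      exact this.trans (hπ _)
    · intro x hx
      let k : ↥(Spec (CommRingCat.of K)) := ⟨⊥, Ideal.isPrime_bot⟩
      have hxk : π k = Spec.map (CommRingCat.ofHom (algebraMap R S)) (P.iso.inv x) := by
        rw [hπ, ← P.iso_hom_comp, Scheme.Hom.comp_apply]
        rw [show P.iso.hom (P.iso.inv x) = x from by rw [← Scheme.Hom.comp_apply, Iso.inv_hom_id]; rfl]
        exact hx.symm
      obtain ⟨z, -, hz⟩ := Scheme.Pullback.exists_preimage_pullback _ _ hxk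
      refine ⟨(pullbackSpecIso R K S).hom z, ?_⟩
      show q ((pullbackSpecIso R K S).hom z) = x
      rw [← Scheme.Hom.comp_apply, show (pullbackSpecIso R K S).hom ≫ q = pullback.snd _ _ ≫ P.iso.hom from pullbackSpecIso_hom_snd_assoc R K S P.iso.hom, Scheme.Hom.comp_apply, hz,
        ← Scheme.Hom.comp_apply, Iso.inv_hom_id]
      rfl
  have hconn : _root_.IsConnected (X.hom ⁻¹' {s}) := by
    rw [← hrange]
    haveI : ConnectedSpace ↥(Spec (CommRingCat.of (K ⊗[R] S))) := ‹ConnectedSpace (PrimeSpectrum (K ⊗[R] S))›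
    exact isConnected_range q.continuous
  haveI := Subtype.connectedSpace hconn
  exact (X.hom.fiberHomeo s).symm.surjective.connectedSpace (X.hom.fiberHomeo s).symm.continuous

end QuadConn
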