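import Groth.Agent.QuadConnLib.Generation
import Groth.Agent.QuadConnLib.PointsConn
import Mathlib.RingTheory.Localization.Away.Basic
import Mathlib.Algebra.MvPolynomial.CommRing
import Mathlib.Algebra.Polynomial.AlgebraMap
import Mathlib.Tactic

/-!
Geometric points of `SO(Q)` are generated by points deformable to the identity along domains.
-/

namespace QuadConn

open CategoryTheory AlgebraicGeometry TensorProduct QuadCliff QuadraticMap
open scoped MonObj

universe u

variable {R : Type u} [CommRing R] {n : ℕ} {Q : QuadraticForm R (Fin n → R)}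
  {G : Over (Spec (CommRingCat.of R))} [GrpObj G] (D : QuadGrp.SOrthRep Q G)

section Compat

variable {A B C : Type u} [CommRing A] [Algebra R A] [CommRing B] [Algebra R B] [CommRing C] [Algebra R C]

theorem ext'_comp (φ : A →ₐ[R] B) (ψ : B →ₐ[R] C) (x : A ⊗[R] (Fin n → R)) :
    ext' ψ (ext' φ x) = ext' (ψ.comp φ) x := by
  induction x using TensorProduct.induction_on with
  | zero => simp
  | add s t hs ht => simp only [map_add, hs, ht]
  | tmul a v => simp

theorem ext'_id (x : A ⊗[R] (Fin n → R)) : ext' (AlgHom.id R A) x = x := by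
  induction x using TensorProduct.induction_on with
  | zero => simp
  | add s t hs ht => simp only [map_add, hs, ht]
  | tmul a v => simp

theorem tmul_eq_smul (a : A) (v : Fin n → R) : a ⊗ₜ[R] v = a • ((1 : A) ⊗ₜ[R] v) := by
  rw [TensorProduct.smul_tmul', smul_eq_mul, mul_one]

theorem Compat.unique {φ : A →ₐ[R] B} {gA : (A ⊗[R] (Fin n → R)) ≃ₗ[A] (A ⊗[R] (Fin n → R))}
    {g g' : (B ⊗[R] (Fin n → R)) ≃ₗ[B] (B ⊗[R] (Fin n → R))} (h : Compat φ gA g) (h' : Compat φ gA g') : g = g' := by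
  refine LinearEquiv.ext fun x => ?_
  induction x using TensorProduct.induction_on with
  | zero => simp
  | add s t hs ht => simp only [map_add, hs, ht]
  | tmul b v =>
    have e : ext' φ ((1 : A) ⊗ₜ[R] v) = (1 : B) ⊗ₜ[R] v := by simp
    rw [tmul_eq_smul b v, map_smul, map_smul, ← e, h, h']

include D in
theorem compat_pts (φ : A →ₐ[R] B) (y : QuadGrp.specOver R A ⟶ G) :
    Compat φ (D.pts A y).1 (D.pts B (QuadGrp.specOverMap R φ ≫ y)).1 := fun x => by
  induction x using TensorProduct.induction_on with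
  | zero => simp
  | add s t hs ht => simp only [map_add, hs, ht]
  | tmul a v =>
    rw [tmul_eq_smul a v, ext'_smul, map_smul, map_smul, ext'_smul]
    refine congrArg (φ a • ·) ?_
    rw [← D.natural A B φ y v]
    simp

include D in
theorem map_pts_symm (φ : A →ₐ[R] B) {γ : (A ⊗[R] (Fin n → R)) ≃ₗ[A] (A ⊗[R] (Fin n → R))}
    (hγ : γ ∈ QuadGrp.sorth Q A) {g : (B ⊗[R] (Fin n → R)) ≃ₗ[B] (B ⊗[R] (Fin n → R))} (h : Compat φ γ g) :
    (D.pts B (QuadGrp.specOverMap R φ ≫ (D.pts A).symm ⟨γ, hγ⟩)).1 = g := by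
  have := compat_pts D φ ((D.pts A).symm ⟨γ, hγ⟩)
  rw [MulEquiv.apply_symm_apply] at this
  exact this.unique h

end Compat

variable (K : Type u) [Field K] [Algebra R K]

/-- The automorphism of a geometric point. -/
noncomputable def ptsHom : (QuadGrp.specOver R K ⟶ G) →* ((K ⊗[R] (Fin n → R)) ≃ₗ[K] (K ⊗[R] (Fin n → R))) :=
  (QuadGrp.sorth Q K).subtype.comp (D.pts K).toMonoidHom

theorem ptsHom_apply (y : QuadGrp.specOver R K ⟶ G) : ptsHom D K y = (D.pts K y).1 := rfl

theorem mem_image_reach {A : Type u} [CommRing A] [IsDomain A] [Algebra R A] (j : K →ₐ[R] A)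
    {γ : (A ⊗[R] (Fin n → R)) ≃ₗ[A] (A ⊗[R] (Fin n → R))} (hγ : γ ∈ QuadGrp.sorth Q A)
    (e0 e1 : A →ₐ[R] K) (h0 : e0.comp j = AlgHom.id R K) (h1 : e1.comp j = AlgHom.id R K)
    (hc0 : Compat e0 γ 1) {g : (K ⊗[R] (Fin n → R)) ≃ₗ[K] (K ⊗[R] (Fin n → R))} (hc1 : Compat e1 γ g) :
    g ∈ ptsHom D K '' PtReach G K := by
  refine ⟨QuadGrp.specOverMap R e1 ≫ (D.pts A).symm ⟨γ, hγ⟩,
    ⟨A, inferInstance, inferInstance, inferInstance, j, (D.pts A).symm ⟨γ, hγ⟩, e0, e1, h0, h1, ?_, rfl⟩, ?_⟩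
  · exact (D.pts K).injective (Subtype.ext ((map_pts_symm D e0 hγ hc0).trans (by simp)))
  · exact map_pts_symm D e1 hγ hc1

theorem eichler_mem_reach (e a : K ⊗[R] (Fin n → R)) (he : QuadGrp.baseChangeForm K Q e = 0)
    (hea : polar (QuadGrp.baseChangeForm K Q) e a = 0) :
    eichler _ e a he hea ∈ ptsHom D K '' PtReach G K := by
  let j : K →ₐ[R] Polynomial K := IsScalarTower.toAlgHom R K (Polynomial K)
  let ev : K → (Polynomial K →ₐ[R] K) := fun t => (Polynomial.aeval t).restrictScalars R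
  have hev : ∀ t, (ev t).comp j = AlgHom.id R K := fun t => AlgHom.ext fun k => by simp [ev, j]
  have hA : ∀ t, ext' (ev t) ((Polynomial.X : Polynomial K) • ext' j a) = t • a := fun t => by
    rw [ext'_smul, ext'_comp, hev, ext'_id]; simp [ev]
  have hE : ∀ t, ext' (ev t) (ext' j e) = e := fun t => by rw [ext'_comp, hev, ext'_id]
  have he' : QuadGrp.baseChangeForm (Polynomial K) Q (ext' j e) = 0 := by rw [form_ext' Q j, he, map_zero]
  have hea' : polar (QuadGrp.baseChangeForm (Polynomial K) Q) (ext' j e) ((Polynomial.X : Polynomial K) • ext' j a) = 0 := by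
    rw [polar_smul_right, polar_ext' Q j, hea, map_zero, smul_zero]
  refine mem_image_reach D K j
    (eichler_mem_SO _ ((Pi.basisFun R (Fin n)).baseChange (Polynomial K)) _ _ he' hea') (ev 0) (ev 1) (hev 0)
    (hev 1) ?_ (compat_eichler Q (ev 1) (hE 1) (by rw [hA, one_smul]) he' hea' he hea)
  have hea0 : polar (QuadGrp.baseChangeForm K Q) e 0 = 0 := by simp
  have := compat_eichler Q (ev 0) (hE 0) (a' := 0) (by rw [hA, zero_smul]) he' hea' he hea0
  have hone : eichler _ e 0 he hea0 = 1 := LinearEquiv.ext fun x => by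
    rw [eichler_apply]; simp
  rwa [hone] at this

theorem pair_mem_reach_aux {A₀ : Type u} [CommRing A₀] [IsDomain A₀] [Algebra R A₀] (j₀ : K →ₐ[R] A₀)
    (gen : A₀ ⊗[R] (Fin n → R)) {v w : K ⊗[R] (Fin n → R)} {c d : K} (hv : c * QuadGrp.baseChangeForm K Q v = 1)
    (hw : d * QuadGrp.baseChangeForm K Q w = 1) (f0 f1 : A₀ →ₐ[R] K) (hf0 : f0.comp j₀ = AlgHom.id R K)
    (hf1 : f1.comp j₀ = AlgHom.id R K) (hg0 : ext' f0 gen = v) (hg1 : ext' f1 gen = w) :
    refl _ v c hv * refl _ w d hw ∈ ptsHom D K '' PtReach G K := by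
  set P := QuadGrp.baseChangeForm A₀ Q gen with hP
  have hPv : f0 P = QuadGrp.baseChangeForm K Q v := by rw [hP, ← form_ext' Q f0, hg0]
  have hPw : f1 P = QuadGrp.baseChangeForm K Q w := by rw [hP, ← form_ext' Q f1, hg1]
  have hP0 : P ≠ 0 := fun h => by
    rw [h, map_zero] at hPv
    rw [← hPv, mul_zero] at hv
    exact zero_ne_one hv
  haveI : IsDomain (Localization.Away P) :=
    IsLocalization.isDomain_localization (powers_le_nonZeroDivisors_of_noZeroDivisors hP0)
  let l : A₀ →ₐ[R] Localization.Away P := IsScalarTower.toAlgHom R A₀ (Localization.Away P)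
  have hwA : IsUnit (QuadGrp.baseChangeForm (Localization.Away P) Q (ext' l gen)) := by
    rw [form_ext' Q l]
    exact IsLocalization.map_units (Localization.Away P) (⟨P, Submonoid.mem_powers P⟩ : Submonoid.powers P)
  obtain ⟨cA, hcA⟩ := hwA.exists_left_inv
  have hvA : l.comp j₀ c * QuadGrp.baseChangeForm (Localization.Away P) Q (ext' (l.comp j₀) v) = 1 := by
    rw [form_ext' Q (l.comp j₀), ← map_mul, hv, map_one]
  have hlift : ∀ f : A₀ →ₐ[R] K, IsUnit (f P) → ∃ e : Localization.Away P →ₐ[R] K, e.comp l = f := fun f hf => by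
    have hunit : ∀ y : Submonoid.powers P, IsUnit (f y) := by
      rintro ⟨_, k, rfl⟩
      show IsUnit (f (P ^ k))
      rw [map_pow]
      exact hf.pow k
    refine ⟨{ IsLocalization.lift (g := f.toRingHom) (M := Submonoid.powers P) hunit with
        commutes' := fun r => ?_ }, AlgHom.ext fun a => IsLocalization.lift_eq (g := f.toRingHom) hunit a⟩
    show IsLocalization.lift (g := f.toRingHom) (M := Submonoid.powers P) hunit _ = _
    rw [IsScalarTower.algebraMap_apply R A₀ (Localization.Away P), IsLocalization.lift_eq]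
    exact f.commutes r
  obtain ⟨e0, hl0⟩ := hlift f0 (hPv ▸ IsUnit.of_mul_eq_one_right _ hv)
  obtain ⟨e1, hl1⟩ := hlift f1 (hPw ▸ IsUnit.of_mul_eq_one_right _ hw)
  have hj0 : e0.comp (l.comp j₀) = AlgHom.id R K := by rw [← AlgHom.comp_assoc, hl0, hf0]
  have hj1 : e1.comp (l.comp j₀) = AlgHom.id R K := by rw [← AlgHom.comp_assoc, hl1, hf1]
  refine mem_image_reach D K (l.comp j₀)
    (refl_pair_mem_SO _ ((Pi.basisFun R (Fin n)).baseChange (Localization.Away P)) hvA hcA) e0 e1 hj0 hj1 ?_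
    (Compat.mul e1 (compat_refl Q e1 (by rw [ext'_comp, hj1, ext'_id]) hvA hv)
      (compat_refl Q e1 (by rw [ext'_comp, hl1, hg1]) hcA hw))
  have := Compat.mul e0 (compat_refl Q e0 (show ext' e0 (ext' (l.comp j₀) v) = v by rw [ext'_comp, hj0, ext'_id]) hvA hv)
    (compat_refl Q e0 (show ext' e0 (ext' l gen) = v by rw [ext'_comp, hl0, hg0]) hcA hv)
  rwa [refl_mul_self] at this

theorem pair_mem_reach (v w : K ⊗[R] (Fin n → R)) (c d : K) (hv : c * QuadGrp.baseChangeForm K Q v = 1)
    (hw : d * QuadGrp.baseChangeForm K Q w = 1) :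
    refl _ v c hv * refl _ w d hw ∈ ptsHom D K '' PtReach G K := by
  let b := (Pi.basisFun R (Fin n)).baseChange K
  have hgen : ∀ u, ext' ((MvPolynomial.aeval fun i => b.repr u i).restrictScalars R : MvPolynomial (Fin n) K →ₐ[R] K)
      (∑ i, (MvPolynomial.X i : MvPolynomial (Fin n) K) •
        ((1 : MvPolynomial (Fin n) K) ⊗ₜ[R] Pi.basisFun R (Fin n) i)) = u := fun u => by
    conv_rhs => rw [← b.sum_repr u]
    simp only [map_sum, ext'_smul]
    refine Finset.sum_congr rfl fun i _ => ?_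
    simp only [b, AlgHom.restrictScalars_apply, MvPolynomial.aeval_X, LinearMap.rTensor_tmul,
      AlgHom.toLinearMap_apply, map_one, Module.Basis.baseChange_apply]
  exact pair_mem_reach_aux D K (IsScalarTower.toAlgHom R K (MvPolynomial (Fin n) K)) _ hv hw _ _
    (AlgHom.ext fun k => by simp) (AlgHom.ext fun k => by simp) (hgen v) (hgen w)

include D in
theorem closure_reach_eq_top [IsAlgClosed K] (hn : 0 < n)
    (hQ : QuadGrp.IsNondeg (Pi.basisFun R (Fin n)) (LinearEquiv.refl R R) Q) :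
    Subgroup.closure (PtReach G K) = ⊤ := by
  let q := QuadGrp.baseChangeForm K Q
  let b := (Pi.basisFun R (Fin n)).baseChange K
  haveI : FiniteDimensional K (K ⊗[R] (Fin n → R)) := Module.Finite.of_basis b
  have hinj : Function.Injective (ptsHom D K) := fun x y h => (D.pts K).injective (Subtype.ext h)
  refine eq_top_iff.mpr fun y _ => ?_
  have hy : (D.pts K y).1 ∈ QuadGrp.SO q := (D.pts K y).2
  have hgen : (D.pts K y).1 ∈ Subgroup.closure (pairSet q ∪ eichlerSet q) := by
    rcases Nat.even_or_odd n with he | ho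
    · obtain ⟨k, rfl⟩ := he.two_dvd
      exact mem_closure_of_even q (by omega) b (isRegular_baseChange K Q (Pi.basisFun R _) (hQ.1 he)) hy
    · exact mem_closure_of_odd q ho b (isSemiregular_baseChange K (Pi.basisFun R _) (hQ.2 ho)) hy
  have hsub : pairSet q ∪ eichlerSet q ⊆ ptsHom D K '' PtReach G K := by
    rintro _ (⟨v, w, c, d, hv, hw, rfl⟩ | ⟨e, a, he, hea, rfl⟩)
    · exact pair_mem_reach D K v w c d hv hw
    · exact eichler_mem_reach D K e a he hea
  have h := Subgroup.closure_mono hsub hgen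
  rw [← MonoidHom.map_closure] at h
  obtain ⟨y', hy', e⟩ := Subgroup.mem_map.mp h
  rwa [← hinj (show ptsHom D K y' = ptsHom D K y from e)]

end QuadConn
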