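import Groth.Agent.QuadConnLib.RelDim
import Groth.Agent.QuadConnLib.SOReach

/-!
`SO(Q)` has connected fibres.
-/

namespace QuadConn

open QuadSch AlgebraicGeometry CategoryTheory
open scoped MonObj

universe u

variable {R : Type u} [CommRing R] {n : ℕ} {Q : QuadraticForm R (Fin n → R)}
  {G : Over (Spec (CommRingCat.of R))} [GrpObj G]

theorem connected_fibers_even (hn : Even n) (hpos : 0 < n) (hQ : QuadGrp.IsRegular Q)
    (D : QuadGrp.SOrthRep Q G) (s : ↥(Spec (CommRingCat.of R))) : ConnectedSpace ↥(G.hom.fiber s) := by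
  obtain ⟨k, hk⟩ := hn.two_dvd
  obtain ⟨S⟩ := exists_soData Q hk hQ
  haveI := zeroAlg_finitePresentation S.sys.rel
  exact connectedSpace_fiber (sorthPointsEquiv S hn hpos hQ D)
    (fun K _ _ _ => closure_reach_eq_top D K hpos (nondeg_of_regular hn hQ)) s

theorem connected_fibers_odd (hn : Odd n)
    (hQ : QuadGrp.IsSemiregular (Pi.basisFun R (Fin n)) (LinearEquiv.refl R R) Q)
    (D : QuadGrp.SOrthRep Q G) (s : ↥(Spec (CommRingCat.of R))) : ConnectedSpace ↥(G.hom.fiber s) := by
  have hQ' : QuadGrp.IsNondeg (Pi.basisFun R (Fin n)) (LinearEquiv.refl R R) Q :=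
    ⟨fun he => absurd he (Nat.not_even_iff_odd.mpr hn), fun _ => hQ⟩
  haveI := zeroAlg_finitePresentation (sorth'Rel (qMat Q))
  exact connectedSpace_fiber (sorth'PointsEquiv hQ' (sorth'Rep Q hn D))
    (fun K _ _ _ => closure_reach_eq_top D K hn.pos hQ') s

end QuadConn
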