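import Groth.Agent.QuadConnLib.Tangent
import Mathlib.AlgebraicGeometry.Morphisms.Smooth
import Mathlib.Data.Nat.Choose.Basic

/-!
`SO(Q)` is smooth of relative dimension `n.choose 2`.
-/

namespace QuadConn

open QuadSch AlgebraicGeometry CategoryTheory MonObj

universe u

variable {R : Type u} [CommRing R] {n : ℕ} {Q : QuadraticForm R (Fin n → R)}
  {G : Over (Spec (CommRingCat.of R))} [GrpObj G]

omit [GrpObj G] in
theorem smoothOfRelativeDimension_of_points {σ κ : Type} {rel : κ → MvPolynomial σ R} {N : ℕ}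
    (P : PointsEquiv G (ZeroAlg rel)) (hs : (algebraMap R (ZeroAlg rel)).Smooth) (H : TangentRank rel N) :
    SmoothOfRelativeDimension N G.hom := by
  rw [← MorphismProperty.cancel_left_of_respectsIso (P := @SmoothOfRelativeDimension N) P.iso.hom,
    P.iso_hom_comp, HasRingHomProperty.Spec_iff (P := @SmoothOfRelativeDimension N)]
  exact locally_relativeDimension_of_tangentRank H hs

theorem smoothOfRelativeDimension_even (hn : Even n) (hpos : 0 < n) (hQ : QuadGrp.IsRegular Q)
    (D : QuadGrp.SOrthRep Q G) : SmoothOfRelativeDimension (n.choose 2) G.hom := by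
  obtain ⟨k, hk⟩ := hn.two_dvd
  obtain ⟨S⟩ := exists_soData Q hk hQ
  exact smoothOfRelativeDimension_of_points (sorthPointsEquiv S hn hpos hQ D) (smooth_sys S hn hpos hQ)
    (tangentRank_sys S hn hpos hQ)

theorem smoothOfRelativeDimension_odd (hn : Odd n)
    (hQ : QuadGrp.IsSemiregular (Pi.basisFun R (Fin n)) (LinearEquiv.refl R R) Q)
    (D : QuadGrp.SOrthRep Q G) : SmoothOfRelativeDimension (n.choose 2) G.hom := by
  have hQ' : QuadGrp.IsNondeg (Pi.basisFun R (Fin n)) (LinearEquiv.refl R R) Q :=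
    ⟨fun he => absurd he (Nat.not_even_iff_odd.mpr hn), fun _ => hQ⟩
  have hU' := nondeg_qMat Q hQ'
  exact smoothOfRelativeDimension_of_points (sorth'PointsEquiv hQ' (sorth'Rep Q hn D))
    (smooth_sorth'Alg hU' (Or.inl hn)) (tangentRank_sorth' hn (hU'.2 hn))

theorem choose_two_even (m : ℕ) : (2 * m).choose 2 = m * (2 * m - 1) := by
  rw [Nat.choose_two_right, _root_.mul_assoc, Nat.mul_div_cancel_left _ (by norm_num : 0 < 2)]

theorem choose_two_odd (m : ℕ) : (2 * m + 1).choose 2 = m * (2 * m + 1) := by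
  rw [Nat.choose_two_right, Nat.add_sub_cancel, mul_comm (2 * m + 1), _root_.mul_assoc,
    Nat.mul_div_cancel_left _ (by norm_num : 0 < 2)]

end QuadConn
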