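import Groth.Agent.QuadConnLib.Center
import Groth.Agent.QuadSch.Smooth
import Groth.Agent.QuadSch.GPinAlg
import Groth.Agent.QuadGrpL.Center
import Mathlib.LinearAlgebra.TensorAlgebra.Basic
import Mathlib.RingTheory.Nilpotent.Lemmas
import Mathlib.Tactic

/-!
The scheme `SO(Q)` as the zero locus of finitely many equations, and its smoothness.
-/

namespace QuadConn

open CliffordAlgebra TensorProduct QuadCliff QuadSch AlgebraicGeometry CategoryTheory

universe u

variable {R : Type u} [CommRing R] {n : ℕ} (Q : QuadraticForm R (Fin n → R))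

section Points

variable (A : Type u) [CommRing A] [Algebra R A]

theorem mem_O_iff_orth (g : (A ⊗[R] (Fin n → R)) ≃ₗ[A] (A ⊗[R] (Fin n → R))) :
    g ∈ QuadGrp.O (QuadGrp.baseChangeForm A Q) ↔ g ∈ QuadGrp.orth Q A :=
  (QuadGrpLib.mem_orth_iff Q A g).symm

theorem finrank_tensor [Nontrivial A] : Module.finrank A (A ⊗[R] (Fin n → R)) = n := by
  rw [Module.finrank_eq_card_basis ((Pi.basisFun R (Fin n)).baseChange A), Fintype.card_fin]

theorem eq_one_of_subsingleton [Subsingleton A] (g : (A ⊗[R] (Fin n → R)) ≃ₗ[A] (A ⊗[R] (Fin n → R))) : g = 1 := by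
  haveI := Module.subsingleton A (A ⊗[R] (Fin n → R))
  exact LinearEquiv.ext fun x => Subsingleton.elim _ _

theorem mem_sorth_even (hn : Even n) (g : (A ⊗[R] (Fin n → R)) ≃ₗ[A] (A ⊗[R] (Fin n → R))) :
    g ∈ QuadGrp.sorth Q A ↔ ∃ hg : g ∈ QuadGrp.O (QuadGrp.baseChangeForm A Q),
      QuadGrp.IsDicksonTrivial (QuadGrp.baseChangeForm A Q) g hg := by
  rcases subsingleton_or_nontrivial A with hA | hA
  · rw [eq_one_of_subsingleton A g]
    exact ⟨fun _ => (QuadGrp.SOeven _).one_mem, fun _ => Subgroup.one_mem _⟩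
  · rw [QuadGrp.sorth, QuadGrp.SO, if_pos (by rwa [finrank_tensor])]
    rfl

theorem mem_sorth_odd (hn : Odd n) (g : (A ⊗[R] (Fin n → R)) ≃ₗ[A] (A ⊗[R] (Fin n → R))) :
    g ∈ QuadGrp.sorth Q A ↔ g ∈ QuadGrp.sorth' Q A := by
  rcases subsingleton_or_nontrivial A with hA | hA
  · rw [eq_one_of_subsingleton A g]
    exact iff_of_true (Subgroup.one_mem _) (Subgroup.one_mem _)
  · rw [QuadGrp.sorth, QuadGrp.SO, if_neg (by rw [finrank_tensor]; exact Nat.not_even_iff_odd.mpr hn)]
    exact and_congr_left' (mem_O_iff_orth Q A g)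

theorem sorth_eq_sorth' (hn : Odd n) : QuadGrp.sorth Q A = QuadGrp.sorth' Q A :=
  SetLike.ext fun g => mem_sorth_odd Q A hn g

theorem orthEquiv_val (hQ : QuadGrp.IsNondeg (Pi.basisFun R (Fin n)) (LinearEquiv.refl R R) Q)
    (g : ↥(QuadGrp.orth Q A)) :
    (orthEquiv Q hQ A g).1 = LinearMap.toMatrix ((Pi.basisFun R (Fin n)).baseChange A)
      ((Pi.basisFun R (Fin n)).baseChange A) g.1.toLinearMap := rfl

theorem toMatrix_orthEquiv_symm (hQ : QuadGrp.IsNondeg (Pi.basisFun R (Fin n)) (LinearEquiv.refl R R) Q)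
    (M : {g : Matrix (Fin n) (Fin n) A // IsOrthMat ((qMat Q).map (algebraMap R A)) g}) :
    LinearMap.toMatrix ((Pi.basisFun R (Fin n)).baseChange A) ((Pi.basisFun R (Fin n)).baseChange A)
      ((orthEquiv Q hQ A).symm M).1.toLinearMap = M.1 := by
  rw [← orthEquiv_val Q A hQ, Equiv.apply_symm_apply]

end Points

open MonObj in
/-- In odd rank a representing scheme of `SO(Q)` represents the naive group. -/
noncomputable def sorth'Rep (hn : Odd n) {G : Over (Spec (CommRingCat.of R))} [GrpObj G]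
    (D : QuadGrp.SOrthRep Q G) : QuadGrp.SOrth'Rep Q G where
  pts A _ _ := (D.pts A).trans (MulEquiv.subgroupCongr (sorth_eq_sorth' Q A hn))
  natural := D.natural

section Eqs

/-- The images of the standard vectors. -/
noncomputable def vmap (A : Type u) [CommRing A] [Algebra R A]
    (g : (A ⊗[R] (Fin n → R)) →ₗ[A] (A ⊗[R] (Fin n → R))) :
    (Fin n → R) →ₗ[R] CliffordAlgebra (QuadGrp.baseChangeForm A Q) :=
  ((ι (QuadGrp.baseChangeForm A Q)).restrictScalars R).comp
    ((g.restrictScalars R).comp (TensorProduct.mk R A (Fin n → R) 1))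

/-- The multiplicative extension of the images of the standard vectors. -/
noncomputable def tmap (A : Type u) [CommRing A] [Algebra R A]
    (g : (A ⊗[R] (Fin n → R)) →ₗ[A] (A ⊗[R] (Fin n → R))) :
    TensorAlgebra R (Fin n → R) →ₐ[R] CliffordAlgebra (QuadGrp.baseChangeForm A Q) :=
  TensorAlgebra.lift R (vmap Q A g)

theorem tmap_of_mem (A : Type u) [CommRing A] [Algebra R A]
    (g : (A ⊗[R] (Fin n → R)) ≃ₗ[A] (A ⊗[R] (Fin n → R))) (hg : g ∈ QuadGrp.O (QuadGrp.baseChangeForm A Q))
    (t : TensorAlgebra R (Fin n → R)) :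
    tmap Q A g.toLinearMap t = cmap g hg (toBC A Q (TensorAlgebra.lift R (ι Q) t)) := by
  have : tmap Q A g.toLinearMap =
      ((cmap g hg).restrictScalars R).comp ((toBC A Q).comp (TensorAlgebra.lift R (ι Q))) := by
    refine TensorAlgebra.hom_ext (LinearMap.ext fun v => ?_)
    simp [tmap, vmap]
    rfl
  exact AlgHom.congr_fun this t

theorem mapBC_tmap {A B : Type u} [CommRing A] [Algebra R A] [CommRing B] [Algebra R B] (φ : A →ₐ[R] B)
    (gA : (A ⊗[R] (Fin n → R)) →ₗ[A] (A ⊗[R] (Fin n → R)))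
    (gB : (B ⊗[R] (Fin n → R)) →ₗ[B] (B ⊗[R] (Fin n → R)))
    (h : ∀ m : Fin n → R, gB (1 ⊗ₜ[R] m) = LinearMap.rTensor _ φ.toLinearMap (gA (1 ⊗ₜ[R] m)))
    (t : TensorAlgebra R (Fin n → R)) : mapBC Q φ (tmap Q A gA t) = tmap Q B gB t := by
  let F : CliffordAlgebra (QuadGrp.baseChangeForm A Q) →ₐ[R] CliffordAlgebra (QuadGrp.baseChangeForm B Q) :=
    { mapBC Q φ with
      commutes' := fun r => by
        show mapBC Q φ (algebraMap R _ r) = _
        rw [IsScalarTower.algebraMap_apply R A, mapBC_algebraMap, AlgHom.commutes, ← IsScalarTower.algebraMap_apply] }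
  have : F.comp (tmap Q A gA) = tmap Q B gB := by
    refine TensorAlgebra.hom_ext (LinearMap.ext fun v => ?_)
    simp only [tmap, vmap, LinearMap.coe_comp, Function.comp_apply, AlgHom.toLinearMap_apply, AlgHom.coe_comp,
      TensorAlgebra.lift_ι_apply, LinearMap.coe_restrictScalars, TensorProduct.mk_apply]
    rw [h]
    exact mapBC_ι Q φ _
  exact AlgHom.congr_fun this t

/-- The endomorphism of a matrix. -/
noncomputable def gLin {A : Type u} [CommRing A] [Algebra R A] (x : Fin n × Fin n → A) :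
    (A ⊗[R] (Fin n → R)) →ₗ[A] (A ⊗[R] (Fin n → R)) :=
  Matrix.toLin ((Pi.basisFun R (Fin n)).baseChange A) ((Pi.basisFun R (Fin n)).baseChange A)
    (Matrix.of fun i j => x (i, j))

theorem gLin_natural {A B : Type u} [CommRing A] [Algebra R A] [CommRing B] [Algebra R B] (φ : A →ₐ[R] B)
    (x : Fin n × Fin n → A) (m : Fin n → R) :
    gLin (fun p => φ (x p)) (1 ⊗ₜ[R] m) = LinearMap.rTensor _ φ.toLinearMap (gLin x (1 ⊗ₜ[R] m)) := by
  have hs : ∀ (a : A) (t : A ⊗[R] (Fin n → R)),
      LinearMap.rTensor (Fin n → R) φ.toLinearMap (a • t) = φ a • LinearMap.rTensor (Fin n → R) φ.toLinearMap t := by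
    intro a t
    induction t using TensorProduct.induction_on with
    | zero => simp
    | add s t hs ht => simp only [smul_add, map_add, hs, ht]
    | tmul b v => simp [TensorProduct.smul_tmul']
  have h : ((gLin (fun p => φ (x p))).restrictScalars R).comp (TensorProduct.mk R B (Fin n → R) 1) =
      (LinearMap.rTensor _ φ.toLinearMap).comp
        (((gLin x).restrictScalars R).comp (TensorProduct.mk R A (Fin n → R) 1)) := by
    refine (Pi.basisFun R (Fin n)).ext fun j => ?_
    simp only [LinearMap.coe_comp, Function.comp_apply, LinearMap.coe_restrictScalars, TensorProduct.mk_apply,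
      gLin, ← Module.Basis.baseChange_apply, Matrix.toLin_self, map_sum, hs, Matrix.of_apply]
    exact Finset.sum_congr rfl fun i _ => by simp
  exact LinearMap.congr_fun h m

/-- The data of the equations. -/
structure SOData where
  N : ℕ
  K : ℕ
  d : Fin N → ZDatum Q
  span : Ideal.span (Set.range fun i => (d i).u) = ⊤
  t : Fin N → TensorAlgebra R (Fin n → R)
  ht : ∀ i, TensorAlgebra.lift R (ι Q) (t i) = (d i).z
  c : Module.Basis (Fin K) R (CliffordAlgebra Q)

theorem exists_soData {k : ℕ} (hn : n = 2 * k) (hQ : QuadGrp.IsRegular Q) : Nonempty (SOData Q) := by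
  classical
  subst hn
  obtain ⟨N, d, hd⟩ := exists_zData (Pi.basisFun R (Fin (2 * k))) hQ
  have hsurj : ∀ x : CliffordAlgebra Q, ∃ t, TensorAlgebra.lift R (ι Q) t = x := fun x => by
    induction x using CliffordAlgebra.induction with
    | algebraMap r => exact ⟨algebraMap R _ r, AlgHom.commutes _ r⟩
    | ι v => exact ⟨TensorAlgebra.ι R v, TensorAlgebra.lift_ι_apply _ _⟩
    | mul a b ha hb =>
      obtain ⟨s, rfl⟩ := ha
      obtain ⟨t, rfl⟩ := hb
      exact ⟨s * t, map_mul _ _ _⟩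
    | add a b ha hb =>
      obtain ⟨s, rfl⟩ := ha
      obtain ⟨t, rfl⟩ := hb
      exact ⟨s + t, map_add _ _ _⟩
  choose t ht using fun i => hsurj (d i).z
  obtain ⟨hfree, hfin⟩ := free_finite (Q := Q) (Pi.basisFun R (Fin (2 * k)))
  let c := Module.Free.chooseBasis R (CliffordAlgebra Q)
  exact ⟨⟨N, _, d, hd, t, ht, c.reindex (Fintype.equivFin _)⟩⟩

variable {Q} (S : SOData Q)

/-- The values of the equations. -/
noncomputable def SOData.val (A : Type u) [CommRing A] [Algebra R A] (x : Fin n × Fin n → A) :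
    Sym2 (Fin n) ⊕ (Fin S.N × Fin S.K) → A
  | .inl z => MvPolynomial.aeval x (orthRel (qMat Q) z)
  | .inr p => (bcBasis Q S.c A).repr (tmap Q A (gLin x) (S.t p.1) - toBC A Q (S.d p.1).z) p.2

/-- The equations. -/
noncomputable def SOData.sys : EqSys R (Fin n × Fin n) (Sym2 (Fin n) ⊕ (Fin S.N × Fin S.K)) where
  val := S.val
  natural {A B} _ _ _ _ φ x r := by
    rcases r with z | p <;> simp only [SOData.val]
    · rw [← AlgHom.comp_apply, MvPolynomial.comp_aeval]
    · rw [← repr_mapBC, map_sub, mapBC_toBC, mapBC_tmap Q φ _ _ (gLin_natural φ x)]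

theorem gLin_toMatrix {A : Type u} [CommRing A] [Algebra R A]
    (g : (A ⊗[R] (Fin n → R)) →ₗ[A] (A ⊗[R] (Fin n → R))) :
    gLin (fun p => LinearMap.toMatrix ((Pi.basisFun R (Fin n)).baseChange A)
      ((Pi.basisFun R (Fin n)).baseChange A) g p.1 p.2) = g :=
  Matrix.toLin_toMatrix _ _ _

theorem gLin_orthEquiv_symm {A : Type u} [CommRing A] [Algebra R A]
    (hQ : QuadGrp.IsNondeg (Pi.basisFun R (Fin n)) (LinearEquiv.refl R R) Q) (x : Fin n × Fin n → A)
    (h : IsOrthMat ((qMat Q).map (algebraMap R A)) (Matrix.of fun i j => x (i, j))) :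
    ((orthEquiv Q hQ A).symm ⟨_, h⟩).1.toLinearMap = gLin x := by
  refine (LinearMap.toMatrix ((Pi.basisFun R (Fin n)).baseChange A)
    ((Pi.basisFun R (Fin n)).baseChange A)).injective ?_
  rw [toMatrix_orthEquiv_symm Q A hQ, gLin, LinearMap.toMatrix_toLin]

theorem isOrthMat_toMatrix {A : Type u} [CommRing A] [Algebra R A]
    (hQ : QuadGrp.IsNondeg (Pi.basisFun R (Fin n)) (LinearEquiv.refl R R) Q) (g : ↥(QuadGrp.orth Q A))
    (z : Sym2 (Fin n)) :
    MvPolynomial.aeval (fun p : Fin n × Fin n => LinearMap.toMatrix ((Pi.basisFun R (Fin n)).baseChange A)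
      ((Pi.basisFun R (Fin n)).baseChange A) g.1.toLinearMap p.1 p.2) (orthRel (qMat Q) z) = 0 := by
  have h := (orthEquiv Q hQ A g).2
  rw [orthEquiv_val Q A hQ] at h
  refine (forall_orthRel_iff (qMat Q) _).mpr ?_ z
  exact h

variable (hn : Even n) (hpos : 0 < n) (hQ : QuadGrp.IsRegular Q)

include hn hQ in
theorem nondeg_of_regular : QuadGrp.IsNondeg (Pi.basisFun R (Fin n)) (LinearEquiv.refl R R) Q :=
  ⟨fun _ => hQ, fun ho => absurd hn (Nat.not_even_iff_odd.mpr ho)⟩

include hn hpos hQ in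
theorem dickson_iff (A : Type u) [CommRing A] [Algebra R A]
    (g : (A ⊗[R] (Fin n → R)) ≃ₗ[A] (A ⊗[R] (Fin n → R))) (hg : g ∈ QuadGrp.O (QuadGrp.baseChangeForm A Q)) :
    QuadGrp.IsDicksonTrivial (QuadGrp.baseChangeForm A Q) g hg ↔
      ∀ i, cmap g hg (toBC A Q (S.d i).z) = toBC A Q (S.d i).z := by
  obtain ⟨k, rfl⟩ : ∃ k, n = 2 * k := hn.two_dvd
  exact isDicksonTrivial_bc_iff (Pi.basisFun R (Fin (2 * k))) (by omega) hQ S.d S.span A g hg

include hn hpos hQ in
theorem spec_toMatrix {A : Type u} [CommRing A] [Algebra R A] (g : ↥(QuadGrp.sorth Q A)) :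
    ∀ r, S.sys.val A (fun p => LinearMap.toMatrix ((Pi.basisFun R (Fin n)).baseChange A)
      ((Pi.basisFun R (Fin n)).baseChange A) g.1.toLinearMap p.1 p.2) r = 0 := by
  obtain ⟨hg, hD⟩ := (mem_sorth_even Q A hn g.1).mp g.2
  rintro (z | ⟨i, a⟩)
  · exact isOrthMat_toMatrix (nondeg_of_regular hn hQ) ⟨g.1, (mem_O_iff_orth Q A g.1).mp hg⟩ z
  · show (bcBasis Q S.c A).repr (tmap Q A (gLin _) (S.t i) - toBC A Q (S.d i).z) a = 0
    rw [gLin_toMatrix, tmap_of_mem Q A g.1 hg, S.ht, (dickson_iff S hn hpos hQ A g.1 hg).mp hD i, sub_self,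
      map_zero, Finsupp.zero_apply]

include hn hpos hQ in
theorem spec_mem {A : Type u} [CommRing A] [Algebra R A] (x : Fin n × Fin n → A)
    (hx : ∀ r, S.sys.val A x r = 0) :
    ((orthEquiv Q (nondeg_of_regular hn hQ) A).symm
      ⟨Matrix.of fun i j => x (i, j), (forall_orthRel_iff (qMat Q) x).mp fun z => hx (.inl z)⟩).1 ∈
      QuadGrp.sorth Q A := by
  set g := (orthEquiv Q (nondeg_of_regular hn hQ) A).symm
      ⟨Matrix.of fun i j => x (i, j), (forall_orthRel_iff (qMat Q) x).mp fun z => hx (.inl z)⟩ with hgdef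
  have hg : g.1 ∈ QuadGrp.O (QuadGrp.baseChangeForm A Q) := (mem_O_iff_orth Q A g.1).mpr g.2
  refine (mem_sorth_even Q A hn g.1).mpr ⟨hg, (dickson_iff S hn hpos hQ A g.1 hg).mpr fun i => ?_⟩
  rw [← S.ht, ← tmap_of_mem Q A g.1 hg, ← sub_eq_zero, hgdef, gLin_orthEquiv_symm (nondeg_of_regular hn hQ) x]
  refine (bcBasis Q S.c A).repr.map_eq_zero_iff.mp (Finsupp.ext fun a => ?_)
  rw [S.ht, Finsupp.zero_apply]
  exact hx (.inr (i, a))

/-- The points of the equations are the special orthogonal group. -/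
noncomputable def solEquiv (A : Type u) [CommRing A] [Algebra R A] :
    ↥(QuadGrp.sorth Q A) ≃ {x : Fin n × Fin n → A // ∀ r, S.sys.val A x r = 0} where
  toFun g := ⟨_, spec_toMatrix S hn hpos hQ g⟩
  invFun x := ⟨_, spec_mem S hn hpos hQ x.1 x.2⟩
  left_inv g := Subtype.ext (congrArg Subtype.val ((orthEquiv Q (nondeg_of_regular hn hQ) A).symm_apply_apply
    ⟨g.1, (mem_O_iff_orth Q A g.1).mp ((mem_sorth_even Q A hn g.1).mp g.2).1⟩) :)
  right_inv x := Subtype.ext (funext fun p => by
    show LinearMap.toMatrix _ _ _ p.1 p.2 = x.1 p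
    rw [toMatrix_orthEquiv_symm Q A (nondeg_of_regular hn hQ)]
    rfl)

variable {G : Over (Spec (CommRingCat.of R))} [GrpObj G]

open MonObj in
/-- In even rank a representing scheme of `SO(Q)` has the points of the algebra of the equations. -/
noncomputable def sorthPointsEquiv (D : QuadGrp.SOrthRep Q G) : PointsEquiv G (ZeroAlg S.sys.rel) where
  toHom A _ _ := (D.pts A).toEquiv.trans ((solEquiv S hn hpos hQ A).trans (S.sys.pointsEquiv A).symm)
  natural A B _ _ _ _ φ y := by
    refine (S.sys.pointsEquiv B).injective (Subtype.ext (funext fun p => ?_))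
    rw [EqSys.pointsEquiv_natural]
    simp only [Equiv.trans_apply, Equiv.apply_symm_apply]
    exact toMatrix_natural φ _ _ (D.natural A B φ y) p.1 p.2

include hn hpos hQ

/-- Congruence to a Dickson trivial isometry modulo a nil ideal implies Dickson trivial. -/
theorem dickson_of_congr (A : Type u) [CommRing A] [Algebra R A] (I : Ideal A) (hI : I ≤ nilradical A)
    (g : (A ⊗[R] (Fin n → R)) ≃ₗ[A] (A ⊗[R] (Fin n → R))) (hg : g ∈ QuadGrp.O (QuadGrp.baseChangeForm A Q))
    (h : ∀ i, cmap g hg (toBC A Q (S.d i).z) - toBC A Q (S.d i).z ∈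
      I • (⊤ : Submodule A (CliffordAlgebra (QuadGrp.baseChangeForm A Q)))) :
    QuadGrp.IsDicksonTrivial (QuadGrp.baseChangeForm A Q) g hg := by
  obtain ⟨k, rfl⟩ : ∃ k, n = 2 * k := hn.two_dvd
  let b := Pi.basisFun R (Fin (2 * k))
  refine isDicksonTrivial_of_fixed_atPrime (b.baseChange A) (by omega) (isRegular_baseChange A Q b hQ) g hg
    fun q _ => ?_
  let f := (algebraMap A (Localization.AtPrime q)).comp (algebraMap R A)
  obtain ⟨i, hi⟩ : ∃ i, IsUnit (f (S.d i).u) := by
    by_contra hall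
    push Not at hall
    have hle : Ideal.span (Set.range fun i => (S.d i).u) ≤
        (IsLocalRing.maximalIdeal (Localization.AtPrime q)).comap f :=
      Ideal.span_le.mpr (by rintro _ ⟨i, rfl⟩; exact hall i)
    rw [S.span, top_le_iff, Ideal.comap_eq_top_iff] at hle
    exact (IsLocalRing.maximalIdeal.isMaximal _).ne_top hle
  let B := (b.baseChange A).baseChange (Localization.AtPrime q)
  obtain ⟨c, hc⟩ := (((S.d i).map A).map (Localization.AtPrime q)).exists_isEta B hi
  refine ⟨_, hc, ?_⟩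
  have hreg := isRegular_baseChange (Localization.AtPrime q) _ (b.baseChange A) (isRegular_baseChange A Q b hQ)
  set gq := g.baseChange A (Localization.AtPrime q) _ _
  have hgq := baseChange_mem_O (Localization.AtPrime q) (QuadGrp.baseChangeForm A Q) g hg
  rcases dichotomy B hreg hc gq hgq (by omega) with h' | h'
  · exact h'
  exfalso
  set C' := CliffordAlgebra (QuadGrp.baseChangeForm (Localization.AtPrime q) (QuadGrp.baseChangeForm A Q))
  set J : Submodule (Localization.AtPrime q) C' :=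
    IsLocalRing.maximalIdeal (Localization.AtPrime q) • (⊤ : Submodule (Localization.AtPrime q) C') with hJ
  have hmem : cmap gq hgq (c • (((S.d i).map A).map (Localization.AtPrime q)).z) -
      c • (((S.d i).map A).map (Localization.AtPrime q)).z ∈ J := by
    rw [map_smul, ← smul_sub]
    refine J.smul_mem c ?_
    show cmap gq hgq (toBC _ _ (toBC A Q (S.d i).z)) - toBC _ _ (toBC A Q (S.d i).z) ∈ J
    rw [cmap, ← toBC_map _ _ g hg, ← map_sub]
    refine Submodule.smul_induction_on (h i) (fun a ha x _ => ?_) fun x y hx hy => ?_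
    · rw [map_smul, ← algebraMap_smul (Localization.AtPrime q) a]
      refine Submodule.smul_mem_smul ?_ Submodule.mem_top
      rw [IsLocalization.AtPrime.to_map_mem_maximal_iff _ q]
      exact (hI.trans (nilradical_le_prime q)) ha
    · rw [map_add]; exact J.add_mem hx hy
  rw [h'] at hmem
  obtain ⟨v, hv⟩ := hc.unit
  have h1 : (1 : C') ∈ J := by
    have hv' : (v : C') ∈ J := by rw [hv]; convert hmem using 1; noncomm_ring
    rw [← v.inv_mul]
    refine Submodule.smul_induction_on hv' (fun a ha x _ => ?_) fun x y hx hy => ?_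
    · rw [mul_smul_comm]; exact Submodule.smul_mem_smul ha Submodule.mem_top
    · rw [mul_add]; exact J.add_mem hx hy
  have htop : (⊤ : Submodule (Localization.AtPrime q) C') ≤ J := fun x _ => by
    rw [← mul_one x]
    refine Submodule.smul_induction_on h1 (fun a ha y _ => ?_) fun y z hy hz => ?_
    · rw [mul_smul_comm]; exact Submodule.smul_mem_smul ha Submodule.mem_top
    · rw [mul_add]; exact J.add_mem hy hz
  obtain ⟨_, hfin⟩ := free_finite (Q := QuadGrp.baseChangeForm (Localization.AtPrime q)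
    (QuadGrp.baseChangeForm A Q)) B
  have hbot := Submodule.eq_bot_of_le_smul_of_le_jacobson_bot _ _ Module.Finite.fg_top htop
    (IsLocalRing.maximalIdeal_le_jacobson ⊥)
  haveI := (algebraMap_injective (Q := QuadGrp.baseChangeForm (Localization.AtPrime q)
    (QuadGrp.baseChangeForm A Q)) B).nontrivial
  exact one_ne_zero ((Submodule.mem_bot _).mp (hbot ▸ Submodule.mem_top : (1 : C') ∈ (⊥ : Submodule _ C')))

/-- An orthogonal matrix congruent to a solution modulo a nil ideal is a solution. -/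
theorem val_eq_zero_of_congr (A : Type u) [CommRing A] [Algebra R A] (I : Ideal A) (hI : I ≤ nilradical A)
    (y : Fin n × Fin n → A) (ho : ∀ z, MvPolynomial.aeval y (orthRel (qMat Q) z) = 0)
    (hcongr : ∀ r, S.sys.val A y r ∈ I) : ∀ r, S.sys.val A y r = 0 := by
  have hyo := (forall_orthRel_iff (qMat Q) y).mp ho
  set g := (orthEquiv Q (nondeg_of_regular hn hQ) A).symm ⟨_, hyo⟩ with hgdef
  have hg : g.1 ∈ QuadGrp.O (QuadGrp.baseChangeForm A Q) := (mem_O_iff_orth Q A g.1).mpr g.2
  have hD : QuadGrp.IsDicksonTrivial (QuadGrp.baseChangeForm A Q) g.1 hg := by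
    refine dickson_of_congr S hn hpos hQ A I hI g.1 hg fun i => ?_
    rw [← (bcBasis Q S.c A).sum_repr (_ - _)]
    refine Submodule.sum_mem _ fun a _ => Submodule.smul_mem_smul ?_ Submodule.mem_top
    have := hcongr (.inr (i, a))
    rw [← S.ht, ← tmap_of_mem Q A g.1 hg, S.ht, hgdef, gLin_orthEquiv_symm (nondeg_of_regular hn hQ) y]
    exact this
  intro r
  have hsol := spec_toMatrix S hn hpos hQ ⟨g.1, (mem_sorth_even Q A hn g.1).mpr ⟨hg, hD⟩⟩ r
  have e := toMatrix_orthEquiv_symm Q A (nondeg_of_regular hn hQ) ⟨_, hyo⟩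
  rw [← hgdef] at e
  rw [e] at hsol
  exact hsol

/-- The algebra of the equations is smooth. -/
theorem smooth_sys : (algebraMap R (ZeroAlg S.sys.rel)).Smooth := by
  refine smooth_zeroAlg _ fun A _ _ I hI x hx => ?_
  simp only [EqSys.aeval_rel] at hx
  have hU := nondeg_qMat Q (nondeg_of_regular hn hQ)
  have hxo : ∀ z, QuadGrpLib.uCoeff ((Matrix.of fun i j => x (i, j)).transpose * (qMat Q).map (algebraMap R A) *
      (Matrix.of fun i j => x (i, j)) - (qMat Q).map (algebraMap R A)) z ∈ I := fun z => by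
    rw [← aeval_orthRel]; exact hx (.inl z)
  obtain ⟨Y, hY, ho⟩ := exists_orth_lift hI (isUnit_polar_det hU (Or.inl hn) (algebraMap R A)) hxo
  obtain ⟨y, hy⟩ : ∃ y : Fin n × Fin n → A,
      y = fun p => ((Matrix.of fun i j => x (i, j)) * (1 + Y)) p.1 p.2 := ⟨_, rfl⟩
  have hyx : ∀ p, y p - x p ∈ I := fun p => by
    rw [hy]; exact mul_one_add_sub_mem (g := Matrix.of fun i j => x (i, j)) hY p.1 p.2
  have hcongr : ∀ r, S.sys.val A y r ∈ I := fun r => by
    have e : ∀ w : Fin n × Fin n → A, Ideal.Quotient.mk I (S.sys.val A w r) =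
        S.sys.val (A ⧸ I) (fun p => Ideal.Quotient.mk I (w p)) r := fun w =>
      S.sys.natural (Ideal.Quotient.mkₐ R I) w r
    rw [← Ideal.Quotient.eq_zero_iff_mem, e,
      show (fun p => Ideal.Quotient.mk I (y p)) = fun p => Ideal.Quotient.mk I (x p) from
        funext fun p => Ideal.Quotient.eq.mpr (hyx p), ← e, Ideal.Quotient.eq_zero_iff_mem]
    exact hx r
  have hyo : IsOrthMat ((qMat Q).map (algebraMap R A)) (Matrix.of fun i j => y (i, j)) := by
    subst hy; exact ho
  refine ⟨y, hyx, fun r => ?_⟩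
  rw [EqSys.aeval_rel]
  exact val_eq_zero_of_congr S hn hpos hQ A I (fun a ha => ⟨2, by rw [sq]; exact mul_eq_zero_of_sq hI ha ha⟩) y
    ((forall_orthRel_iff (qMat Q) y).mpr hyo) hcongr r

end Eqs

end QuadConn
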