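import Groth.Agent.QuadSch.OrthAlg
import Mathlib.RingTheory.RingHom.LocallyStandardSmooth
import Mathlib.RingTheory.Smooth.StandardSmoothCotangent
import Mathlib.RingTheory.Kaehler.Basic
import Mathlib.RingTheory.Localization.Away.Basic
import Mathlib.Algebra.DualNumber
import Mathlib.LinearAlgebra.Dimension.Finrank
import Mathlib.Tactic

/-!
The relative dimension of a smooth zero locus is the dimension of its tangent spaces at field-valued points.
-/

namespace QuadConn

open QuadSch TrivSqZeroExt

universe u

variable {R : Type u} [CommRing R] {σ κ : Type} (rel : κ → MvPolynomial σ R)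

/-- The deformation `x + εv` of a point. -/
def deform {K : Type u} [CommRing K] (x v : σ → K) : σ → DualNumber K := fun s => inl (x s) + inr (v s)

/-- The dimension of all tangent spaces is `N`. -/
def TangentRank (N : ℕ) : Prop :=
  ∀ (K : Type u) [Field K] [Algebra R K] (x : σ → K), (∀ r, MvPolynomial.aeval x (rel r) = 0) →
    ∀ W : Submodule K (σ → K), (∀ v, v ∈ W ↔ ∀ r, MvPolynomial.aeval (deform x v) (rel r) = 0) →
      Module.finrank K W = N

variable {rel}

theorem rank_eq_of_tangentRank {N : ℕ} (H : TangentRank rel N) (T : Type u) [CommRing T] [Algebra R T]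
    [Algebra (ZeroAlg rel) T] [IsScalarTower R (ZeroAlg rel) T] (t : ZeroAlg rel) [IsLocalization.Away t T]
    (K : Type u) [Field K] [Algebra R K] [Algebra T K] [IsScalarTower R T K]
    {d : ℕ} (b : Module.Basis (Fin d) T Ω[T⁄R]) : d = N := by
  classical
  let g : σ → T := fun s => algebraMap (ZeroAlg rel) T (Ideal.Quotient.mk _ (MvPolynomial.X s))
  -- a functional on the differentials
  let F : (Fin d → K) → Ω[T⁄R] → K := fun c ω => ∑ i, c i * algebraMap T K (b.repr ω i)
  have Fadd : ∀ c ω ω', F c (ω + ω') = F c ω + F c ω' := fun c ω ω' => by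
    simp only [F, map_add, Finsupp.add_apply, mul_add, Finset.sum_add_distrib]
  have Fsmul : ∀ c (a : T) ω, F c (a • ω) = algebraMap T K a * F c ω := fun c a ω => by
    simp only [F, map_smul, Finsupp.smul_apply, smul_eq_mul, map_mul, Finset.mul_sum]
    exact Finset.sum_congr rfl fun i _ => by ring
  let Fl : (Fin d → K) → (Ω[T⁄R] →ₗ[T] K) := fun c =>
    { toFun := F c, map_add' := Fadd c, map_smul' := fun a ω => by
        rw [Fsmul, RingHom.id_apply, Algebra.smul_def] }
  let L : (Fin d → K) →ₗ[K] (σ → K) :=
    { toFun := fun c s => F c (KaehlerDifferential.D R T (g s))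
      map_add' := fun c c' => funext fun s => by
        simp only [F, Pi.add_apply, add_mul, Finset.sum_add_distrib]
      map_smul' := fun a c => funext fun s => by
        simp only [F, Pi.smul_apply, smul_eq_mul, RingHom.id_apply, Finset.mul_sum, mul_assoc] }
  -- the first-order point of a functional
  have hpt : ∀ c, ∃ h : T →ₐ[R] DualNumber K,
      ∀ a, h a = inl (algebraMap T K a) + inr (F c (KaehlerDifferential.D R T a)) := fun c => by
    refine ⟨
      { toFun := fun a => inl (algebraMap T K a) + inr (F c (KaehlerDifferential.D R T a))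
        map_one' := ?_, map_mul' := fun a a' => ?_, map_zero' := ?_, map_add' := fun a a' => ?_,
        commutes' := fun r => ?_ }, fun a => rfl⟩
    · rw [Derivation.map_one_eq_zero, map_one]
      refine TrivSqZeroExt.ext ?_ ?_ <;> simp [F]
    · rw [Derivation.leibniz, Fadd, Fsmul, Fsmul]
      refine TrivSqZeroExt.ext (by simp) ?_
      simp [mul_comm]
    · rw [map_zero, map_zero]
      refine TrivSqZeroExt.ext ?_ ?_ <;> simp [F]
    · rw [map_add, map_add, Fadd]
      refine TrivSqZeroExt.ext ?_ ?_ <;> simp
    · rw [Derivation.map_algebraMap, ← IsScalarTower.algebraMap_apply]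
      refine TrivSqZeroExt.ext ?_ ?_ <;>
        simp [F, TrivSqZeroExt.algebraMap_eq_inl', IsScalarTower.algebraMap_apply R T K]
  have hext : ∀ h h' : T →ₐ[R] DualNumber K, (∀ s, h (g s) = h' (g s)) → h = h' := fun h h' e => by
    have e1 : h.comp (IsScalarTower.toAlgHom R (ZeroAlg rel) T) =
        h'.comp (IsScalarTower.toAlgHom R (ZeroAlg rel) T) :=
      Ideal.Quotient.algHom_ext R (MvPolynomial.algHom_ext fun s => e s)
    exact AlgHom.coe_ringHom_injective
      (IsLocalization.ringHom_ext (Submonoid.powers t) (congrArg AlgHom.toRingHom e1))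
  have hinj : Function.Injective L := by
    refine (injective_iff_map_eq_zero L).mpr fun c hc => ?_
    obtain ⟨h, hh⟩ := hpt c
    obtain ⟨h0, hh0⟩ := hpt 0
    have e := hext h h0 fun s => by
      rw [hh, hh0, show F c (KaehlerDifferential.D R T (g s)) = 0 from congrFun hc s]
      simp [F]
    have hD : ∀ a, F c (KaehlerDifferential.D R T a) = 0 := fun a => by
      have := congrArg (fun k => TrivSqZeroExt.snd (k a)) e
      simpa [hh, hh0, F] using this
    have hF : Fl c = 0 := by
      refine Derivation.liftKaehlerDifferential_unique _ _ ?_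
      ext a
      exact hD a
    funext i
    have := LinearMap.congr_fun hF (b i)
    simpa [Fl, F, Finsupp.single_apply] using this
  -- the point
  have hx : ∀ r, MvPolynomial.aeval (fun s => algebraMap T K (g s)) (rel r) = 0 := fun r =>
    ((zeroAlgEquiv rel K) ((IsScalarTower.toAlgHom R T K).comp (IsScalarTower.toAlgHom R (ZeroAlg rel) T))).2 r
  have hmem : ∀ v, v ∈ LinearMap.range L ↔
      ∀ r, MvPolynomial.aeval (deform (fun s => algebraMap T K (g s)) v) (rel r) = 0 := by
    intro v
    constructor
    · rintro ⟨c, rfl⟩ r
      obtain ⟨h, hh⟩ := hpt c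
      have e := ((zeroAlgEquiv rel (DualNumber K)) (h.comp (IsScalarTower.toAlgHom R (ZeroAlg rel) T))).2 r
      rw [show ((zeroAlgEquiv rel (DualNumber K)) (h.comp (IsScalarTower.toAlgHom R (ZeroAlg rel) T))).1 =
        deform (fun s => algebraMap T K (g s)) (L c) from funext fun s => hh (g s)] at e
      exact e
    · intro hv
      let h0 := (zeroAlgEquiv rel (DualNumber K)).symm ⟨_, hv⟩
      have hfst0 : ∀ a, TrivSqZeroExt.fst (h0 a) = algebraMap T K (algebraMap (ZeroAlg rel) T a) := fun a => by
        have : (fstHom R K K).comp h0 =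
            (IsScalarTower.toAlgHom R T K).comp (IsScalarTower.toAlgHom R (ZeroAlg rel) T) :=
          Ideal.Quotient.algHom_ext R (MvPolynomial.algHom_ext fun s => by
            simp [h0, zeroAlgEquiv, deform, g])
        exact AlgHom.congr_fun this a
      have hu : ∀ y : Submonoid.powers t, IsUnit (h0 y) := fun y => by
        rw [TrivSqZeroExt.isUnit_iff_isUnit_fst, hfst0]
        exact (IsLocalization.map_units T y).map (algebraMap T K)
      let h : T →ₐ[R] DualNumber K :=
        { IsLocalization.lift (g := h0.toRingHom) (M := Submonoid.powers t) hu with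
          commutes' := fun r => by
            show IsLocalization.lift (g := h0.toRingHom) (M := Submonoid.powers t) hu _ = _
            rw [IsScalarTower.algebraMap_apply R (ZeroAlg rel) T, IsLocalization.lift_eq]
            exact h0.commutes r }
      have hlift : ∀ a, h (algebraMap (ZeroAlg rel) T a) = h0 a := fun a => IsLocalization.lift_eq hu a
      have hfst : ∀ a, TrivSqZeroExt.fst (h a) = algebraMap T K a := by
        have : ((fstHom R K K).comp h).toRingHom = algebraMap T K :=
          IsLocalization.ringHom_ext (Submonoid.powers t) (RingHom.ext fun a => by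
            show TrivSqZeroExt.fst (h (algebraMap (ZeroAlg rel) T a)) = _
            rw [hlift, hfst0]
            rfl)
        exact fun a => RingHom.congr_fun this a
      let δ : Derivation R T K :=
        Derivation.mk'
          { toFun := fun a => TrivSqZeroExt.snd (h a)
            map_add' := fun a a' => by rw [map_add, TrivSqZeroExt.snd_add]
            map_smul' := fun r a => by rw [map_smul, TrivSqZeroExt.snd_smul, RingHom.id_apply] }
          fun a a' => by
            show TrivSqZeroExt.snd (h (a * a')) = a • TrivSqZeroExt.snd (h a') + a' • TrivSqZeroExt.snd (h a)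
            rw [map_mul, TrivSqZeroExt.snd_mul, hfst, hfst, Algebra.smul_def, Algebra.smul_def]
            simp [mul_comm, Algebra.smul_def]
      refine ⟨fun i => δ.liftKaehlerDifferential (b i), funext fun s => ?_⟩
      show F _ _ = v s
      have hF : ∀ ω, F (fun i => δ.liftKaehlerDifferential (b i)) ω = δ.liftKaehlerDifferential ω := fun ω => by
        conv_rhs => rw [← b.sum_repr ω]
        simp only [F, map_sum, map_smul, Algebra.smul_def]
        exact Finset.sum_congr rfl fun i _ => mul_comm _ _
      rw [hF, Derivation.liftKaehlerDifferential_comp_D]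
      show TrivSqZeroExt.snd (h (g s)) = v s
      rw [hlift]
      simp [h0, zeroAlgEquiv, deform]
  have := H K _ hx (LinearMap.range L) hmem
  rwa [LinearMap.finrank_range_of_inj hinj, Module.finrank_fin_fun] at this

/-- A smooth zero locus whose tangent spaces have dimension `N` is smooth of relative dimension `N`. -/
theorem locally_relativeDimension_of_tangentRank {N : ℕ} (H : TangentRank rel N)
    (hs : (algebraMap R (ZeroAlg rel)).Smooth) :
    RingHom.Locally (RingHom.IsStandardSmoothOfRelativeDimension N) (algebraMap R (ZeroAlg rel)) := by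
  obtain ⟨s, hspan, hloc⟩ := hs.locally_isStandardSmooth
  refine ⟨{t ∈ s | ¬IsNilpotent t}, ?_, fun t ht => ?_⟩
  · by_contra hne
    obtain ⟨m, hm, hle⟩ := Ideal.exists_le_maximal _ hne
    refine hm.ne_top (top_le_iff.mp (hspan ▸ Ideal.span_le.mpr fun t ht => ?_))
    by_cases hn : IsNilpotent t
    · exact nilradical_le_prime (R := ZeroAlg rel) m hn
    · exact hle (Ideal.subset_span ⟨ht, hn⟩)
  · let T := Localization.Away t
    haveI hT : Algebra.IsStandardSmooth R T := by
      rw [← RingHom.isStandardSmooth_algebraMap, IsScalarTower.algebraMap_eq R (ZeroAlg rel) T]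
      exact hloc t ht.1
    haveI : Nontrivial T := by
      refine not_subsingleton_iff_nontrivial.mp fun hsub => ht.2 ?_
      obtain ⟨n, hn⟩ := (IsLocalization.subsingleton_iff (S := T) (M := Submonoid.powers t)).mp hsub
      exact ⟨n, hn⟩
    show RingHom.IsStandardSmoothOfRelativeDimension N ((algebraMap (ZeroAlg rel) T).comp (algebraMap R (ZeroAlg rel)))
    rw [← IsScalarTower.algebraMap_eq, RingHom.isStandardSmoothOfRelativeDimension_algebraMap,
      Algebra.IsStandardSmoothOfRelativeDimension.iff_of_isStandardSmooth]
    obtain ⟨_, _, _, _, ⟨P⟩⟩ := hT.out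
    haveI := P.free_kaehlerDifferential
    haveI : Algebra.FinitePresentation R T := hT.finitePresentation
    haveI : Module.Finite T Ω[T⁄R] := inferInstance
    obtain ⟨m, hm⟩ := Ideal.exists_maximal T
    letI : Field (T ⧸ m) := Ideal.Quotient.field m
    rw [← Module.finrank_eq_rank, Nat.cast_inj]
    exact rank_eq_of_tangentRank H T t (T ⧸ m) (Module.finBasis T Ω[T⁄R])

end QuadConn
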