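import Groth.Agent.QuadConnLib.SOScheme
import Groth.Agent.QuadConnLib.TangentDim
import Mathlib.Data.Sym.Card
import Mathlib.LinearAlgebra.Matrix.Trace
import Mathlib.Tactic

/-!
The tangent spaces of the special orthogonal group at field-valued points have dimension `n.choose 2`.
-/

namespace QuadConn

open Matrix QuadSch QuadGrpLib TrivSqZeroExt

universe u

section MatrixLemmas

variable {A : Type u} [CommRing A] {n : ℕ}

theorem trace_symm_mul_alt {S D : Matrix (Fin n) (Fin n) A} (hS : Sᵀ = S) (hD : IsAltMat D) :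
    (S * D).trace = 0 := by
  have hs : ∀ a c, S c a = S a c := fun a c => congrFun (congrFun hS a) c
  show ∑ a, ∑ c, S a c * D c a = 0
  rw [← Finset.sum_product']
  refine Finset.sum_involution (fun p _ => (p.2, p.1)) (fun p _ => ?_) (fun p _ hne h => hne ?_)
    (fun p _ => by simp) (fun p _ => rfl)
  · show S p.1 p.2 * D p.2 p.1 + S p.2 p.1 * D p.1 p.2 = 0
    rw [hs p.1 p.2, hD.2 p.1 p.2]; ring
  · obtain ⟨a, c⟩ := p
    have : a = c := (congrArg Prod.snd h)
    subst this
    simp [hD.1]

theorem trace_symm_mul_row {S Z : Matrix (Fin n) (Fin n) A} {i : Fin n} (hS : Sᵀ = S)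
    (hSi : ∀ a, S a i = if a = i then 1 else 0) (hD : IsAltMat (Z.updateRow i 0)) : (S * Z).trace = Z i i := by
  classical
  have e : S * Z = S * Z.updateRow i 0 + Matrix.of fun a b => S a i * Z i b := by
    ext a b
    rw [Matrix.add_apply, Matrix.mul_apply, Matrix.mul_apply, Matrix.of_apply,
      ← Finset.add_sum_erase _ _ (Finset.mem_univ i), ← Finset.add_sum_erase _ _ (Finset.mem_univ i),
      Matrix.updateRow_self, Pi.zero_apply, mul_zero, zero_add, add_comm]
    refine congrArg (· + _) (Finset.sum_congr rfl fun j hj => ?_)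
    rw [Matrix.updateRow_ne (Finset.ne_of_mem_erase hj)]
  rw [e, Matrix.trace_add, trace_symm_mul_alt hS hD, zero_add, Matrix.trace]
  simp [hSi]

variable (n) in
/-- The submodule of alternating matrices. -/
def altSub : Submodule A (Matrix (Fin n) (Fin n) A) where
  carrier := {D | IsAltMat D}
  add_mem' := isAltMat_add
  zero_mem' := ⟨fun _ => rfl, fun _ _ => by simp⟩
  smul_mem' c D hD := ⟨fun i => by simp [hD.1 i], fun i j => by simp [hD.2 i j]⟩

theorem mem_altSub {D : Matrix (Fin n) (Fin n) A} : D ∈ altSub n ↔ IsAltMat D := Iff.rfl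

theorem finrank_altSub (K : Type u) [Field K] (n : ℕ) :
    Module.finrank K (altSub (A := K) n) = n.choose 2 := by
  classical
  let I := {p : Fin n × Fin n // p.1 < p.2}
  let e : altSub (A := K) n ≃ₗ[K] (I → K) :=
    { toFun := fun D p => D.1 p.1.1 p.1.2
      map_add' := fun _ _ => rfl
      map_smul' := fun _ _ => rfl
      invFun := fun f => ⟨Matrix.of fun i j =>
          if h : i < j then f ⟨(i, j), h⟩ else if h' : j < i then -f ⟨(j, i), h'⟩ else 0,
        ⟨fun i => by simp, fun i j => by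
          rcases lt_trichotomy i j with h | rfl | h
          · simp [h, h.not_gt]
          · simp
          · simp [h, h.not_gt]⟩⟩
      left_inv := fun D => Subtype.ext (Matrix.ext fun i j => by
        rcases lt_trichotomy i j with h | rfl | h
        · simp [h]
        · simp [D.2.1 i]
        · simp [h, h.not_gt, D.2.2 j i])
      right_inv := fun f => funext fun p => by simp [p.2] }
  rw [e.finrank_eq, Module.finrank_pi]
  refine Eq.trans ?_ (show Fintype.card {z : Sym2 (Fin n) // ¬z.IsDiag} = n.choose 2 by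
    rw [Sym2.card_subtype_not_diag, Fintype.card_fin])
  refine Fintype.card_of_bijective (f := fun p : I => ⟨Sym2.mk p.1.1 p.1.2, by simpa using p.2.ne⟩) ⟨?_, ?_⟩
  · rintro ⟨⟨a, b⟩, hab⟩ ⟨⟨c, d⟩, hcd⟩ h
    simp only [Subtype.mk.injEq, Sym2.eq_iff] at h
    rcases h with ⟨rfl, rfl⟩ | ⟨rfl, rfl⟩
    · rfl
    · exact absurd hab (not_lt_of_gt hcd)
  · rintro ⟨z, hz⟩
    induction z using Sym2.ind with
    | h a b =>
      rcases lt_trichotomy a b with h | rfl | h
      · exact ⟨⟨(a, b), h⟩, rfl⟩
      · exact absurd hz (by simp)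
      · exact ⟨⟨(b, a), h⟩, Subtype.ext Sym2.eq_swap⟩

end MatrixLemmas

section Deform

variable {R : Type u} [CommRing R] {n : ℕ} (U : Matrix (Fin n) (Fin n) R) {K : Type u} [Field K] [Algebra R K]
  {x v : Fin n × Fin n → K}

theorem dual_scalar (a c : K) :
    algebraMap K (DualNumber K) a + (DualNumber.eps : DualNumber K) * algebraMap K (DualNumber K) c = inl a + inr c := by
  have h : ∀ r : K, algebraMap K (DualNumber K) r = inl r := fun r => rfl
  rw [h, h]
  refine TrivSqZeroExt.ext ?_ ?_ <;>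
    simp only [TrivSqZeroExt.fst_add, TrivSqZeroExt.snd_add, TrivSqZeroExt.fst_mul, DualNumber.snd_mul,
      TrivSqZeroExt.fst_inl, TrivSqZeroExt.snd_inl, TrivSqZeroExt.fst_inr, TrivSqZeroExt.snd_inr,
      DualNumber.fst_eps, DualNumber.snd_eps, zero_mul, one_mul, zero_add, add_zero]

theorem dual_apply (A B : Matrix (Fin n) (Fin n) K) (i j : Fin n) :
    (A.map (algebraMap K (DualNumber K)) + (DualNumber.eps : DualNumber K) • B.map (algebraMap K (DualNumber K))) i j =
      inl (A i j) + inr (B i j) := dual_scalar (A i j) (B i j)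

theorem deform_orth_iff (hx : ∀ z, MvPolynomial.aeval x (orthRel U z) = 0)
    (hg : IsUnit (Matrix.of fun i j => x (i, j)).det) :
    (∀ z, MvPolynomial.aeval (deform x v) (orthRel U z) = 0) ↔
      IsAltMat ((U.map (algebraMap R K) + (U.map (algebraMap R K))ᵀ) *
        ((Matrix.of fun i j => x (i, j))⁻¹ * Matrix.of fun i j => v (i, j))) := by
  rw [forall_orthRel_iff]
  have hx' := (forall_orthRel_iff U x).mp hx
  set W := U.map (algebraMap R K) with hW
  set g := Matrix.of fun i j => x (i, j) with hgd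
  set V := Matrix.of fun i j => v (i, j) with hV
  set X := g⁻¹ * V with hX
  have hgX : g * X = V := Matrix.mul_nonsing_inv_cancel_left _ _ hg
  set ι' := (algebraMap K (DualNumber K)) with hι
  have hUmap : U.map (algebraMap R (DualNumber K)) = W.map ι' := by
    rw [hW, Matrix.map_map]; rfl
  have hG : (Matrix.of fun i j => deform x v (i, j)) = g.map ι' + (DualNumber.eps : DualNumber K) • V.map ι' := by
    refine Matrix.ext fun i j => ?_
    rw [dual_apply]
    rfl
  have he : (DualNumber.eps : DualNumber K) * DualNumber.eps = 0 := DualNumber.eps_mul_eps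
  rw [hUmap, hG, IsOrthMat]
  have hexp : (g.map ι' + (DualNumber.eps : DualNumber K) • V.map ι')ᵀ * W.map ι' * (g.map ι' + (DualNumber.eps : DualNumber K) • V.map ι') - W.map ι' =
      (gᵀ * W * g - W).map ι' + (DualNumber.eps : DualNumber K) • (gᵀ * W * V + Vᵀ * W * g).map ι' := by
    rw [Matrix.map_sub _ (map_sub ι'), Matrix.map_mul, Matrix.map_mul, Matrix.map_add _ (map_add ι'),
      Matrix.map_mul, Matrix.map_mul, Matrix.map_mul, Matrix.map_mul, Matrix.transpose_map, Matrix.transpose_map]
    simp only [Matrix.transpose_add, Matrix.transpose_smul, Matrix.add_mul, Matrix.mul_add, Matrix.smul_mul,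
      Matrix.mul_smul, smul_add, smul_smul, he, zero_smul, add_zero, Matrix.mul_assoc]
    abel
  rw [hexp]
  have hsplit : ∀ D E : Matrix (Fin n) (Fin n) K,
      (IsAltMat (D.map ι' + (DualNumber.eps : DualNumber K) • E.map ι') ↔ IsAltMat D ∧ IsAltMat E) := by
    intro D E
    have hfst : ∀ i j, TrivSqZeroExt.fst ((D.map ι' + (DualNumber.eps : DualNumber K) • E.map ι') i j) = D i j := fun i j => by
      rw [dual_apply]; simp
    have hsnd : ∀ i j, TrivSqZeroExt.snd ((D.map ι' + (DualNumber.eps : DualNumber K) • E.map ι') i j) = E i j := fun i j => by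
      rw [dual_apply]; simp
    constructor
    · intro h
      exact ⟨⟨fun i => by rw [← hfst, h.1]; rfl, fun i j => by
          rw [← hfst, ← hfst i j, h.2 i j, TrivSqZeroExt.fst_neg]⟩,
        ⟨fun i => by rw [← hsnd, h.1]; rfl, fun i j => by
          rw [← hsnd, ← hsnd i j, h.2 i j, TrivSqZeroExt.snd_neg]⟩⟩
    · rintro ⟨hD, hE⟩
      exact ⟨fun i => TrivSqZeroExt.ext (by rw [hfst, hD.1]; rfl) (by rw [hsnd, hE.1]; rfl),
        fun i j => TrivSqZeroExt.ext (by rw [TrivSqZeroExt.fst_neg, hfst, hfst, hD.2 i j])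
          (by rw [TrivSqZeroExt.snd_neg, hsnd, hsnd, hE.2 i j])⟩
  rw [hsplit, and_iff_right (show IsAltMat (gᵀ * W * g - W) from hx')]
  have hB : gᵀ * (W + Wᵀ) * g = W + Wᵀ := by
    refine Eq.trans ?_ (add_transpose_eq_of_alt hx')
    simp [Matrix.transpose_mul, Matrix.mul_add, Matrix.add_mul, Matrix.mul_assoc]
  have key : gᵀ * W * V + Vᵀ * W * g = (W + Wᵀ) * X + (Vᵀ * W * g - (Vᵀ * W * g)ᵀ) := by
    have : (W + Wᵀ) * X = gᵀ * W * V + gᵀ * Wᵀ * V := by
      conv_lhs => rw [← hB, Matrix.mul_assoc _ g X, hgX]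
      rw [Matrix.mul_add, Matrix.add_mul]
    rw [this, Matrix.transpose_mul, Matrix.transpose_mul, Matrix.transpose_transpose, Matrix.mul_assoc gᵀ Wᵀ V]
    abel
  rw [key]
  refine ⟨fun h => ?_, fun h => isAltMat_add h (isAltMat_sub_transpose _)⟩
  simpa using isAltMat_sub h (isAltMat_sub_transpose (Vᵀ * W * g))

theorem deform_det_iff (hd : (Matrix.of fun i j => x (i, j)).det = 1) :
    (Matrix.of fun i j => deform x v (i, j)).det = 1 ↔
      ((Matrix.of fun i j => x (i, j))⁻¹ * Matrix.of fun i j => v (i, j)).trace = 0 := by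
  set g := Matrix.of fun i j => x (i, j) with hgd
  set V := Matrix.of fun i j => v (i, j) with hV
  set ι' := (algebraMap K (DualNumber K)) with hι
  set X := g⁻¹ * V with hX
  have hgX : g * X = V := Matrix.mul_nonsing_inv_cancel_left _ _ (by rw [hd]; exact isUnit_one)
  have hG : (Matrix.of fun i j => deform x v (i, j)) = g.map ι' + (DualNumber.eps : DualNumber K) • V.map ι' := by
    refine Matrix.ext fun i j => ?_
    rw [dual_apply]
    rfl
  have e : g.map ι' + (DualNumber.eps : DualNumber K) • V.map ι' = g.map ι' * (1 + (DualNumber.eps : DualNumber K) • X.map ι') := by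
    rw [Matrix.mul_add, Matrix.mul_one, Matrix.mul_smul, ← Matrix.map_mul, hgX]
  let I : Ideal (DualNumber K) := Ideal.span {DualNumber.eps}
  have hI : I ^ 2 = ⊥ := by
    rw [Ideal.span_singleton_pow, Ideal.span_singleton_eq_bot, sq]; exact DualNumber.eps_mul_eps
  rw [hG, e, Matrix.det_mul, ← RingHom.mapMatrix_apply, ← RingHom.map_det, hd, map_one, one_mul,
    det_one_add hI (Y := (DualNumber.eps : DualNumber K) • X.map ι')
      (fun i j => Ideal.mul_mem_right _ _ (Ideal.subset_span rfl))]
  have hsum : (∑ i, ((DualNumber.eps : DualNumber K) • X.map ι') i i) = inr X.trace := by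
    show (∑ i, (DualNumber.eps : DualNumber K) * algebraMap K (DualNumber K) (X i i)) = inr X.trace
    rw [← Finset.mul_sum, ← map_sum]
    have h := dual_scalar (0 : K) X.trace
    rw [map_zero, zero_add, TrivSqZeroExt.inl_zero, zero_add] at h
    exact h
  rw [hsum, add_eq_left]
  refine ⟨fun h => ?_, fun h => by rw [h, TrivSqZeroExt.inr_zero]⟩
  exact congrArg TrivSqZeroExt.snd h

end Deform

section Dim

variable {K : Type u} [Field K] {n : ℕ} {U g : Matrix (Fin n) (Fin n) K}

/-- Matrices as vectors. -/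
def entries : Matrix (Fin n) (Fin n) K →ₗ[K] (Fin n × Fin n → K) where
  toFun M p := M p.1 p.2
  map_add' _ _ := rfl
  map_smul' _ _ := rfl

theorem entries_injective : Function.Injective (entries (K := K) (n := n)) := fun _ _ h =>
  Matrix.ext fun i j => congrFun h (i, j)

theorem finrank_of_param (φ : Matrix (Fin n) (Fin n) K →ₗ[K] Matrix (Fin n) (Fin n) K)
    (hinj : ∀ D, IsAltMat D → φ D = 0 → D = 0) {W : Submodule K (Fin n × Fin n → K)}
    (hW : ∀ v, v ∈ W ↔ ∃ D, IsAltMat D ∧ φ D = Matrix.of fun i j => v (i, j)) :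
    Module.finrank K W = n.choose 2 := by
  rw [← finrank_altSub K n]
  have hrange : W = LinearMap.range ((entries.comp φ).comp (altSub (A := K) n).subtype) := by
    ext v
    rw [hW, LinearMap.mem_range]
    constructor
    · rintro ⟨D, hD, h⟩
      exact ⟨⟨D, hD⟩, funext fun p => congrFun (congrFun h p.1) p.2⟩
    · rintro ⟨⟨D, hD⟩, rfl⟩
      exact ⟨D, hD, rfl⟩
  rw [hrange, LinearMap.finrank_range_of_inj]
  refine (injective_iff_map_eq_zero _).mpr fun D hD => Subtype.ext ?_
  refine hinj _ D.2 (entries_injective ?_)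
  rw [map_zero]
  exact hD

theorem trace_eq_zero_of_alt (hP : IsUnit (U + Uᵀ).det) {X : Matrix (Fin n) (Fin n) K}
    (h : IsAltMat ((U + Uᵀ) * X)) : X.trace = 0 := by
  have e : X = (U + Uᵀ)⁻¹ * ((U + Uᵀ) * X) := (Matrix.nonsing_inv_mul_cancel_left _ _ hP).symm
  rw [e]
  refine trace_symm_mul_alt ?_ h
  rw [Matrix.transpose_nonsing_inv, Matrix.transpose_add, Matrix.transpose_transpose, add_comm]

theorem finrank_tangent_of_isUnit (hP : IsUnit (U + Uᵀ).det) (hg : IsUnit g.det)
    {W : Submodule K (Fin n × Fin n → K)}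
    (hW : ∀ v, v ∈ W ↔ IsAltMat ((U + Uᵀ) * (g⁻¹ * Matrix.of fun i j => v (i, j)))) :
    Module.finrank K W = n.choose 2 := by
  refine finrank_of_param (LinearMap.mulLeft K (g * (U + Uᵀ)⁻¹)) (fun D _ h => ?_) fun v => ?_
  · have h' : g * ((U + Uᵀ)⁻¹ * D) = 0 := by rw [← Matrix.mul_assoc]; exact h
    rw [← Matrix.mul_nonsing_inv_cancel_left _ D hP, ← Matrix.nonsing_inv_mul_cancel_left g ((U + Uᵀ)⁻¹ * D) hg, h',
      Matrix.mul_zero, Matrix.mul_zero]
  · rw [hW]
    constructor
    · intro h
      refine ⟨_, h, ?_⟩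
      rw [LinearMap.mulLeft_apply, Matrix.mul_assoc, Matrix.nonsing_inv_mul_cancel_left _ _ hP,
        Matrix.mul_nonsing_inv_cancel_left _ _ hg]
    · rintro ⟨D, hD, h⟩
      rw [← h, LinearMap.mulLeft_apply, Matrix.mul_assoc, Matrix.nonsing_inv_mul_cancel_left _ _ hg,
        Matrix.mul_nonsing_inv_cancel_left _ _ hP]
      exact hD

theorem finrank_tangent_of_odd (hn : Odd n) (hU' : IsUnit (hU U)) (hg : IsUnit g.det)
    {W : Submodule K (Fin n × Fin n → K)}
    (hW : ∀ v, v ∈ W ↔ IsAltMat ((U + Uᵀ) * (g⁻¹ * Matrix.of fun i j => v (i, j))) ∧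
      (g⁻¹ * Matrix.of fun i j => v (i, j)).trace = 0) :
    Module.finrank K W = n.choose 2 := by
  classical
  by_cases h2 : IsUnit (2 : K)
  · have hP : IsUnit (U + Uᵀ).det := by rw [← two_mul_hU hn]; exact h2.mul hU'
    exact finrank_tangent_of_isUnit hP hg fun v =>
      (hW v).trans ⟨And.left, fun h => ⟨h, trace_eq_zero_of_alt hP h⟩⟩
  obtain ⟨i, hi⟩ := exists_unit_adjugate_diag hn hU' h2
  obtain ⟨c, hc⟩ := hi.exists_left_inv
  have h20 : (2 : K) = 0 := by rwa [isUnit_iff_ne_zero, not_not] at h2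
  set P := U + Uᵀ with hP
  set L := (1 : Matrix (Fin n) (Fin n) K).updateCol i (fun a => c * P.adjugate a i) with hL
  have hLd : IsUnit L.det := by rw [hL, det_of_updateCol, hc]; exact isUnit_one
  set U2 := Lᵀ * U * L with hU2
  have hP2 : U2 + U2ᵀ = Lᵀ * P * L := by
    rw [hP, hU2]; simp [Matrix.transpose_mul, Matrix.mul_add, Matrix.add_mul, Matrix.mul_assoc]
  set P2 := U2 + U2ᵀ with hP2d
  have hcol : ∀ j, P2 j i = 0 := by
    intro j
    by_cases hj : j = i
    · subst hj
      rw [hP2d, Matrix.add_apply, Matrix.transpose_apply, ← two_mul, h20, zero_mul]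
    · rw [hP2, Matrix.mul_assoc, Matrix.mul_apply, Finset.sum_eq_single i]
      · simp [hL, Matrix.updateCol_ne hj, Matrix.one_apply_ne (Ne.symm hj)]
      · intro a _ ha
        have h := congrFun (congrFun (Matrix.mul_adjugate P) a) i
        rw [Matrix.smul_apply, Matrix.one_apply_ne ha, smul_zero] at h
        have : (P * L) a i = c * (P * P.adjugate) a i := by
          simp only [Matrix.mul_apply, hL, Matrix.updateCol_self, Finset.mul_sum]
          exact Finset.sum_congr rfl fun _ _ => by ring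
        rw [this, h, mul_zero, mul_zero]
      · simp
  have hsymm : P2ᵀ = P2 := by rw [hP2d, Matrix.transpose_add, Matrix.transpose_transpose, add_comm]
  have hrowP : ∀ j, P2 i j = 0 := fun j => (congrFun (congrFun hsymm j) i).trans (hcol j)
  have hU2u : IsUnit (hU U2) := by
    have := hU_congr hn U Lᵀ
    rw [Matrix.transpose_transpose, Matrix.det_transpose] at this
    rw [hU2, this]
    exact (hLd.pow 2).mul hU'
  have hadj : IsUnit (P2.adjugate i i) :=
    (IsUnit.mul_iff.mp ((hU_of_row hn U2 i fun j _ => hrowP j) ▸ hU2u)).2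
  set Ph := P2.updateRow i (Pi.single i 1) with hPh
  have hPhd : IsUnit Ph.det := by rw [hPh, ← Matrix.adjugate_apply]; exact hadj
  have hPhs : Phᵀ = Ph := by
    refine Matrix.ext fun a b => ?_
    rw [Matrix.transpose_apply, hPh]
    by_cases ha : a = i <;> by_cases hb : b = i
    · rw [ha, hb]
    · rw [ha, Matrix.updateRow_self, Matrix.updateRow_ne hb, hcol, Pi.single_eq_of_ne hb]
    · rw [hb, Matrix.updateRow_self, Matrix.updateRow_ne ha, hcol, Pi.single_eq_of_ne ha]
    · rw [Matrix.updateRow_ne ha, Matrix.updateRow_ne hb]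
      exact congrFun (congrFun hsymm a) b
  have hS : (Ph⁻¹)ᵀ = Ph⁻¹ := by rw [Matrix.transpose_nonsing_inv, hPhs]
  have hSi : ∀ a, Ph⁻¹ a i = if a = i then 1 else 0 := fun a => by
    have h1 : ∀ b, Ph b i = (1 : Matrix (Fin n) (Fin n) K) b i := fun b => by
      by_cases hb : b = i
      · rw [hb, hPh, Matrix.updateRow_self, Pi.single_eq_same, Matrix.one_apply_eq]
      · rw [hPh, Matrix.updateRow_ne hb, hcol, Matrix.one_apply_ne hb]
    have h := congrFun (congrFun (Matrix.nonsing_inv_mul Ph hPhd) a) i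
    rw [Matrix.mul_apply] at h
    simp only [h1] at h
    rw [← Matrix.mul_apply, Matrix.mul_one, Matrix.one_apply] at h
    exact h
  have hrows : ∀ X : Matrix (Fin n) (Fin n) K, P2 * X = (Ph * X).updateRow i 0 := fun X => by
    refine Matrix.ext fun a b => ?_
    by_cases ha : a = i
    · subst ha; simp [Matrix.mul_apply, hrowP]
    · simp [Matrix.mul_apply, Matrix.updateRow_ne ha, hPh]
  have hcongr : ∀ X : Matrix (Fin n) (Fin n) K, IsAltMat (P * X) ↔ IsAltMat ((Ph * (L⁻¹ * X * L)).updateRow i 0) := by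
    intro X
    have e : Lᵀ * (P * X) * L = P2 * (L⁻¹ * X * L) := by
      rw [hP2, Matrix.mul_assoc (Lᵀ * P) L, ← Matrix.mul_assoc L, ← Matrix.mul_assoc L,
        Matrix.mul_nonsing_inv _ hLd, Matrix.one_mul]
      simp only [Matrix.mul_assoc]
    rw [← hrows, ← e]
    refine ⟨fun h => h.congr L, fun h => ?_⟩
    have h' := h.congr L⁻¹
    rwa [Matrix.mul_assoc Lᵀ, ← Matrix.mul_assoc _ Lᵀ, ← Matrix.transpose_mul, Matrix.mul_nonsing_inv _ hLd,
      Matrix.transpose_one, Matrix.one_mul, Matrix.mul_assoc, Matrix.mul_nonsing_inv _ hLd, Matrix.mul_one] at h'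
  have htrace : ∀ X : Matrix (Fin n) (Fin n) K, IsAltMat ((Ph * (L⁻¹ * X * L)).updateRow i 0) →
      X.trace = (Ph * (L⁻¹ * X * L)) i i := by
    intro X h
    rw [← trace_symm_mul_row hS hSi h, Matrix.nonsing_inv_mul_cancel_left _ _ hPhd, Matrix.trace_mul_cycle,
      Matrix.mul_nonsing_inv _ hLd, Matrix.one_mul]
  let Zl : Matrix (Fin n) (Fin n) K →ₗ[K] Matrix (Fin n) (Fin n) K :=
    { toFun := fun D => D.updateCol i 0
      map_add' := fun D E => by ext a b; by_cases hb : b = i <;> simp [hb]
      map_smul' := fun t D => by ext a b; by_cases hb : b = i <;> simp [hb] }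
  refine finrank_of_param ((LinearMap.mulLeft K (g * L * Ph⁻¹)).comp ((LinearMap.mulRight K L⁻¹).comp Zl))
    (fun D hD h => ?_) fun v => ?_
  · have h0 : Zl D = 0 := by
      have h' : g * L * Ph⁻¹ * (Zl D * L⁻¹) = 0 := h
      have h'' : Ph * (L⁻¹ * (g⁻¹ * (g * L * Ph⁻¹ * (Zl D * L⁻¹)))) * L = 0 := by
        rw [h', Matrix.mul_zero, Matrix.mul_zero, Matrix.mul_zero, Matrix.zero_mul]
      rwa [Matrix.mul_assoc g, Matrix.mul_assoc g, Matrix.nonsing_inv_mul_cancel_left _ _ hg,
        Matrix.mul_assoc L, Matrix.nonsing_inv_mul_cancel_left _ _ hLd, Matrix.mul_nonsing_inv_cancel_left _ _ hPhd,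
        Matrix.nonsing_inv_mul_cancel_right _ _ hLd] at h''
    refine Matrix.ext fun a b => ?_
    have hz : ∀ a b, b ≠ i → D a b = 0 := fun a b hb => by
      have := congrFun (congrFun h0 a) b
      simpa [Zl, hb] using this
    by_cases hb : b = i
    · subst hb
      by_cases ha : a = b
      · subst ha; simp [hD.1]
      · rw [hD.2 b a, hz b a ha, neg_zero]; rfl
    · exact hz a b hb
  · rw [hW, hcongr]
    constructor
    · rintro ⟨h1, h2'⟩
      set X := g⁻¹ * Matrix.of fun i j => v (i, j) with hX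
      set Z := Ph * (L⁻¹ * X * L) with hZ
      have hZii : Z i i = 0 := (htrace X h1).symm.trans h2'
      have hZcol : ∀ a, Z a i = 0 := fun a => by
        by_cases ha : a = i
        · rw [ha, hZii]
        · have := h1.2 i a
          simpa [Matrix.updateRow_ne ha] using this
      have hDZ : ∀ a b, a ≠ i → Z a b = (Z.updateRow i 0) a b := fun a b ha => by rw [Matrix.updateRow_ne ha]
      refine ⟨Matrix.of fun a b => if b = i then (if a = i then 0 else -Z i a) else Z a b, ⟨?_, ?_⟩, ?_⟩
      · intro a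
        by_cases ha : a = i
        · simp [ha]
        · simp [ha, hDZ a a ha, h1.1 a]
      · intro a b
        by_cases ha : a = i <;> by_cases hb : b = i
        · simp [ha, hb]
        · subst ha; simp [hb]
        · subst hb; simp [ha]
        · simp only [Matrix.of_apply, if_neg ha, if_neg hb]
          rw [hDZ b a hb, hDZ a b ha]
          exact h1.2 a b
      · show g * L * Ph⁻¹ * (Zl _ * L⁻¹) = _
        have eZ : Zl (Matrix.of fun a b => if b = i then (if a = i then 0 else -Z i a) else Z a b) = Z := by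
          refine Matrix.ext fun a b => ?_
          by_cases hb : b = i
          · subst hb; simp [Zl, hZcol a]
          · simp [Zl, hb]
        rw [eZ, hZ, Matrix.mul_assoc Ph, Matrix.mul_nonsing_inv_cancel_right _ _ hLd, Matrix.mul_assoc (g * L),
          Matrix.nonsing_inv_mul_cancel_left _ _ hPhd, Matrix.mul_assoc g, Matrix.mul_nonsing_inv_cancel_left _ _ hLd,
          hX, Matrix.mul_nonsing_inv_cancel_left _ _ hg]
    · rintro ⟨D, hD, h⟩
      have eZ : Ph * (L⁻¹ * (g⁻¹ * Matrix.of fun i j => v (i, j)) * L) = Zl D := by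
        rw [← h]
        show Ph * (L⁻¹ * (g⁻¹ * (g * L * Ph⁻¹ * (Zl D * L⁻¹))) * L) = Zl D
        rw [Matrix.mul_assoc g, Matrix.mul_assoc g, Matrix.nonsing_inv_mul_cancel_left _ _ hg,
          Matrix.mul_assoc L, Matrix.nonsing_inv_mul_cancel_left _ _ hLd, Matrix.mul_assoc Ph⁻¹,
          Matrix.nonsing_inv_mul_cancel_right _ _ hLd, Matrix.mul_nonsing_inv_cancel_left _ _ hPhd]
      have h1 : IsAltMat ((Zl D).updateRow i 0) := by
        refine ⟨fun a => ?_, fun a b => ?_⟩
        · by_cases ha : a = i <;> simp [Zl, ha, hD.1]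
        · by_cases ha : a = i <;> by_cases hb : b = i <;> simp [Zl, ha, hb, hD.2 a b]
      rw [eZ]
      refine ⟨h1, ?_⟩
      rw [htrace _ (by rw [eZ]; exact h1), eZ]
      simp [Zl]

end Dim

section Rank

variable {R : Type u} [CommRing R] {n : ℕ}

theorem tangentRank_sorth' (hn : Odd n) {U : Matrix (Fin n) (Fin n) R}
    (hU' : IsUnit (hU U)) : TangentRank (sorth'Rel U) (n.choose 2) := by
  intro K _ _ x hx W hW
  have hxo : ∀ z, MvPolynomial.aeval x (orthRel U z) = 0 := fun z => hx (some z)
  have hd : (Matrix.of fun i j => x (i, j)).det = 1 := by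
    have := hx none
    rwa [sorth'Rel, map_sub, map_one, aeval_det, sub_eq_zero] at this
  have hg : IsUnit (Matrix.of fun i j => x (i, j)).det := by rw [hd]; exact isUnit_one
  refine finrank_tangent_of_odd (U := U.map (algebraMap R K)) hn
    (by rw [← map_hU]; exact hU'.map _) hg fun v => (hW v).trans ?_
  rw [← deform_orth_iff U hxo hg, ← deform_det_iff hd, Option.forall, and_comm]
  simp [sorth'Rel, aeval_det, sub_eq_zero]

variable {Q : QuadraticForm R (Fin n → R)}

theorem tangentRank_sys (S : SOData Q) (hn : Even n) (hpos : 0 < n) (hQ : QuadGrp.IsRegular Q) :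
    TangentRank S.sys.rel (n.choose 2) := by
  intro K _ _ x hx W hW
  simp only [EqSys.aeval_rel] at hx
  have hU' := nondeg_qMat Q (nondeg_of_regular hn hQ)
  have hxo : ∀ z, MvPolynomial.aeval x (orthRel (qMat Q) z) = 0 := fun z => hx (.inl z)
  have hK := map_nondeg (algebraMap R K) hU'
  have hg : IsUnit (Matrix.of fun i j => x (i, j)).det :=
    IsUnit.of_mul_eq_one _ (((forall_orthRel_iff _ x).mp hxo).isUnit_det hK.1 hK.2)
  refine finrank_tangent_of_isUnit (U := (qMat Q).map (algebraMap R K)) (hK.1 hn) hg fun v => (hW v).trans ?_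
  rw [← deform_orth_iff (qMat Q) hxo hg]
  simp only [EqSys.aeval_rel]
  refine ⟨fun h z => h (.inl z), fun h => ?_⟩
  refine val_eq_zero_of_congr S hn hpos hQ (DualNumber K) (RingHom.ker (fstHom R K K)) ?_ _ h fun r => ?_
  · intro a ha
    refine ⟨2, ?_⟩
    have h0 : TrivSqZeroExt.fst a = 0 := ha
    refine TrivSqZeroExt.ext ?_ ?_ <;> simp [sq, h0]
  · show fstHom R K K (S.sys.val (DualNumber K) (deform x v) r) = 0
    rw [S.sys.natural]
    convert hx r using 2
    funext p
    simp [deform]

end Rank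

end QuadConn
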